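import Mathlib
import Cfsg.Prelude.Def_Transfer
import Cfsg.Prelude.Def_Classification2
import Cfsg.Prelude.Def_LieTypeChar

/-!
# S3541 (3/2-transitive groups): the interface (captain helper73)

* `Half H m` : `H` is a core-free maximal subgroup of `G`, all two point stabilisers `H ⊓ g H g⁻¹` (`g ∉ H`) have order
  `m > 1`, and `G` is not doubly transitive on the cosets of `H`;
* `AS T` : `G` is almost simple with socle `T`;
* `Concl H` : the two almost simple cases of the statement;
* `Row P` : the conclusion for the socles with property `P`.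
-/

set_option autoImplicit false

namespace Cfsg.Agent.TH

section

variable {G : Type*} [Group G]

/-- the conjugate `g H g⁻¹` -/
abbrev cj (g : G) (H : Subgroup G) : Subgroup G := H.map (MulAut.conj g).toMonoidHom

theorem mem_cj {g x : G} {H : Subgroup G} : x ∈ cj g H ↔ g⁻¹ * x * g ∈ H := by
  constructor
  · rintro ⟨y, hy, rfl⟩
    simpa [mul_assoc] using hy
  · intro h
    exact ⟨g⁻¹ * x * g, h, by simp [mul_assoc]⟩

/-- the stabiliser of a primitive 3/2-transitive group which is neither Frobenius nor doubly transitive -/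
structure Half (H : Subgroup G) (m : ℕ) : Prop where
  max : IsCoatom H
  core : H.normalCore = ⊥
  card_inf : ∀ g, g ∉ H → Nat.card ↥(H ⊓ cj g H) = m
  one_lt : 1 < m
  not_two : ∃ g g' : G, g ∉ H ∧ g' ∉ H ∧ ∀ h ∈ H, ∀ h' ∈ H, g' ≠ h * g * h'

/-- `G` is almost simple with socle `T` -/
structure AS (T : Subgroup G) : Prop where
  normal : T.Normal
  simple : IsSimpleGroup T
  nonab : ¬ IsMulCommutative T
  cent : Subgroup.centralizer (T : Set G) = ⊥

/-- the almost simple cases of the statement -/
def Concl (H : Subgroup G) : Prop :=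
  (H.index = 21 ∧ (Nonempty (G ≃* alternatingGroup (Fin 7)) ∨ Nonempty (G ≃* Equiv.Perm (Fin 7)))) ∨
  (∃ f : ℕ, 3 ≤ f ∧ H.index = 2 ^ (f - 1) * (2 ^ f - 1) ∧
    ∃ N : Subgroup G, N.Normal ∧ Nonempty (↥N ≃* Matrix.ProjectiveSpecialLinearGroup (Fin 2) (GaloisField 2 f)))

end

/-- the conclusion holds for all socles with the property `P` -/
def Row (P : ∀ (T : Type) [Group T], Prop) : Prop :=
  ∀ (G : Type) [Group G] [Finite G] (T H : Subgroup G) (m : ℕ), AS T → Half H m → P ↥T → Concl H

/-- no example at all for the socles with the property `P` -/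
def NoRow (P : ∀ (T : Type) [Group T], Prop) : Prop :=
  ∀ (G : Type) [Group G] [Finite G] (T H : Subgroup G) (m : ℕ), AS T → Half H m → P ↥T → False

theorem NoRow.row {P : ∀ (T : Type) [Group T], Prop} (h : NoRow P) : Row P :=
  fun G _ _ T H m hT hH hP => (h G T H m hT hH hP).elim

/-- the almost simple case -/
def AllAS : Prop := Row fun _ _ => True

/-- alternating socles of degree at least 7 (degrees 5 and 6 are `PSL₂(4)` and `PSL₂(9)`) -/
def RowAlt : Prop := Row fun T _ => ∃ c : ℕ, 7 ≤ c ∧ Nonempty (T ≃* alternatingGroup (Fin c))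

/-- sporadic socles -/
def RowSpor : Prop := NoRow fun T _ => Cfsg.IsSporadicGroup T

/-- the Tits group -/
def RowTits : Prop := NoRow fun T _ => Cfsg.Lie.IsoTits T

/-- socles `PSL₂(q)`, `q ≥ 4` -/
def RowPSL2 : Prop :=
  Row fun T _ => ∃ (F : Type) (_ : Field F) (_ : Fintype F), 4 ≤ Fintype.card F ∧
    Nonempty (T ≃* Matrix.ProjectiveSpecialLinearGroup (Fin 2) F)

/-- parabolic actions: the socle is of Lie type in characteristic `p` and the degree is prime to `p` -/
def Parabolic : Prop :=
  ∀ (G : Type) [Group G] [Finite G] (T H : Subgroup G) (m p : ℕ), AS T → Half H m → p.Prime →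
    Cfsg.IsLieTypeChar p ↥T → ¬ Cfsg.Lie.IsoTits ↥T → p ∣ H.index

end Cfsg.Agent.TH
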