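import Mathlib
import Cfsg.Agent.TH.Basic

/-!
# S3541: reduction to the almost simple case (helper71)

If `Half H m` and every non-trivial normal subgroup meets `H`, the group is almost simple.
-/

set_option autoImplicit false
set_option linter.unusedSectionVars false

namespace Cfsg.Agent.TH.Red

variable {G : Type*} [Group G]

/-- `T` is a minimal normal subgroup of `N` -/
structure MinN (N T : Subgroup G) : Prop where
  ne : T ≠ ⊥
  le : T ≤ N
  norm : ∀ n ∈ N, cj n T = T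
  min : ∀ S : Subgroup G, S ≤ T → (∀ n ∈ N, cj n S = S) → S = ⊥ ∨ S = T

theorem cj_normal (N : Subgroup G) [hN : N.Normal] (g : G) : cj g N = N := by
  ext x
  rw [mem_cj]
  exact ⟨fun h => by simpa [mul_assoc] using hN.conj_mem _ h g, fun h => by simpa using hN.conj_mem _ h g⁻¹⟩

theorem cj_bot (g : G) : cj g (⊥ : Subgroup G) = ⊥ := Subgroup.map_bot _

theorem cj_eq_of_le [Finite G] {g : G} {S : Subgroup G} (h : cj g S ≤ S) : cj g S = S :=
  Subgroup.eq_of_le_of_card_ge h (by rw [card_cj])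

theorem MinN.conj {N T : Subgroup G} [hN : N.Normal] (h : MinN N T) (g : G) : MinN N (cj g T) where
  ne := fun h1 => h.ne (by rw [← cj_inv_cj g T, h1, cj_bot])
  le := (cj_mono g h.le).trans (cj_normal N g).le
  norm n hn := by
    have h1 : g⁻¹ * n * g ∈ N := by simpa using hN.conj_mem _ hn g⁻¹
    conv_rhs => rw [← h.norm _ h1]
    rw [← cj_mul, ← cj_mul]
    congr 1
    group
  min S hS hn := by
    rcases h.min (cj g⁻¹ S) ((cj_le_iff _).2 (by rwa [inv_inv])) (fun n hn' => by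
      conv_rhs => rw [← hn _ (hN.conj_mem _ hn' g)]
      rw [← cj_mul, ← cj_mul]
      congr 1
      group) with h1 | h1
    · left
      rw [← cj_cj_inv g S, h1, cj_bot]
    · right
      rw [← cj_cj_inv g S, h1]

theorem MinN.conj_mem {N T : Subgroup G} (h : MinN N T) {n t : G} (hn : n ∈ N) (ht : t ∈ T) : n * t * n⁻¹ ∈ T :=
  h.norm n hn ▸ conj_mem_cj n ht

theorem MinN.commute {N T T' : Subgroup G} (h : MinN N T) (h' : MinN N T') (hne : T ≠ T') {a b : G} (ha : a ∈ T)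
    (hb : b ∈ T') : Commute a b := by
  have h1 : T ⊓ T' = ⊥ := by
    rcases h.min (T ⊓ T') inf_le_left (fun n hn => by rw [cj_inf, h.norm n hn, h'.norm n hn]) with h1 | h1
    · exact h1
    · rcases h'.min T (h1 ▸ inf_le_right) h.norm with h2 | h2
      · exact absurd h2 h.ne
      · exact absurd h2 hne
  have h2 : a * b * a⁻¹ * b⁻¹ ∈ T ⊓ T' := by
    refine ⟨?_, T'.mul_mem (h'.conj_mem (h.le ha) hb) (T'.inv_mem hb)⟩
    have := mul_mem ha (h.conj_mem (h'.le hb) (inv_mem ha))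
    simpa [mul_assoc] using this
  rw [h1, Subgroup.mem_bot, mul_inv_eq_one, mul_inv_eq_iff_eq_mul] at h2
  exact h2

theorem exists_minN [Finite G] {N : Subgroup G} [N.Normal] (hN : N ≠ ⊥) : ∃ T, MinN N T := by
  obtain ⟨T, ⟨h1, h2, h3⟩, hT⟩ := (wellFounded_lt (α := Subgroup G)).has_min
    {T | T ≠ ⊥ ∧ T ≤ N ∧ ∀ n ∈ N, cj n T = T} ⟨N, hN, le_rfl, fun n _ => cj_normal N n⟩
  refine ⟨T, h1, h2, h3, fun S hS hn => ?_⟩
  by_contra h
  push Not at h
  exact hT S ⟨h.1, hS.trans h2, hn⟩ (lt_of_le_of_ne hS h.2)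

section Min

variable {N : Subgroup G} [hN : N.Normal] (hmin : ∀ M : Subgroup G, M.Normal → M ≤ N → M = ⊥ ∨ M = N)

include hmin

/-- a subgroup containing all conjugates of `T` contains `N` -/
theorem le_of_forall {T S : Subgroup G} (h : MinN N T) (hS : ∀ g, cj g T ≤ S) : N ≤ S := by
  have h1 : Subgroup.normalClosure (T : Set G) ≤ N := Subgroup.normalClosure_le_normal h.le
  rcases hmin _ inferInstance h1 with h2 | h2
  · exact absurd (eq_bot_iff.2 (h2 ▸ Subgroup.le_normalClosure)) h.ne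
  · rw [← h2]
    refine (Subgroup.closure_le _).2 fun x hx => ?_
    obtain ⟨t, ht, c, hc⟩ := Group.mem_conjugatesOfSet_iff.1 hx
    refine hS c ?_
    have h3 : x = c * t * (c : G)⁻¹ := by rw [hc.eq, mul_inv_cancel_right]
    rw [h3]
    exact conj_mem_cj _ ht

theorem exists_mul {T : Subgroup G} (h : MinN N T) {n : G} (hn : n ∈ N) :
    ∃ t ∈ T, ∃ c ∈ Subgroup.centralizer (T : Set G), n = t * c := by
  let S : Subgroup G :=
    { carrier := {x | ∃ t ∈ T, ∃ c ∈ Subgroup.centralizer (T : Set G), x = t * c}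
      one_mem' := ⟨1, one_mem _, 1, one_mem _, by simp⟩
      mul_mem' := by
        rintro _ _ ⟨t, ht, c, hc, rfl⟩ ⟨t', ht', c', hc', rfl⟩
        refine ⟨t * t', mul_mem ht ht', c * c', mul_mem hc hc', ?_⟩
        have h1 : t' * c = c * t' := hc t' ht'
        rw [mul_assoc, mul_assoc, ← mul_assoc c, ← h1, mul_assoc]
      inv_mem' := by
        rintro _ ⟨t, ht, c, hc, rfl⟩
        refine ⟨t⁻¹, inv_mem ht, c⁻¹, inv_mem hc, ?_⟩
        have h1 : t * c = c * t := hc t ht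
        rw [h1, mul_inv_rev] }
  refine le_of_forall hmin (S := S) h (fun g x hx => ?_) hn
  by_cases hg : cj g T = T
  · exact ⟨x, hg ▸ hx, 1, one_mem _, by simp⟩
  · exact ⟨1, one_mem _, x, fun t ht => (h.commute (h.conj g) (Ne.symm hg) ht hx).eq, by simp⟩

/-- a normal subgroup of `T` is normal in `N` -/
theorem MinN.simple {T : Subgroup G} (h : MinN N T) : IsSimpleGroup T := by
  have : Nontrivial T := (Subgroup.nontrivial_iff_ne_bot T).2 h.ne
  refine ⟨fun K hK => ?_⟩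
  have h0 : ∀ n ∈ N, ∀ x ∈ K.map T.subtype, n * x * n⁻¹ ∈ K.map T.subtype := by
    rintro n hn _ ⟨k, hk, rfl⟩
    obtain ⟨t, ht, c, hc, rfl⟩ := exists_mul hmin h hn
    refine ⟨⟨t, ht⟩ * k * ⟨t, ht⟩⁻¹, hK.conj_mem k hk _, ?_⟩
    have h1 : (k : G) * c = c * k := hc k k.2
    show t * k * t⁻¹ = t * c * k * (t * c)⁻¹
    rw [mul_assoc t c, ← h1]
    group
  rcases h.min (K.map T.subtype) (Subgroup.map_subtype_le _) (fun n hn => by
    ext x
    rw [mem_cj]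
    exact ⟨fun hx => by simpa [mul_assoc] using h0 n hn _ hx, fun hx => by simpa using h0 _ (inv_mem hn) _ hx⟩)
    with h1 | h1
  · left
    exact (Subgroup.map_eq_bot_iff_of_injective K T.subtype_injective).1 h1
  · right
    rw [eq_top_iff]
    intro x _
    obtain ⟨y, hy, hy'⟩ : (x : G) ∈ K.map T.subtype := h1.symm ▸ x.2
    exact Subtype.ext hy' ▸ hy

theorem pow_card_eq_one [Finite G] (hc : Subgroup.centralizer (N : Set G) = ⊥) {T : Subgroup G} (h : MinN N T)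
    {n : G} (hn : n ∈ N) : n ^ Nat.card T = 1 := by
  have h1 : N ≤ Subgroup.centralizer {n ^ Nat.card T} := le_of_forall hmin h fun g x hx => by
    obtain ⟨t, ht, c, hc, rfl⟩ := exists_mul hmin (h.conj g) hn
    have h2 : Commute t c := hc t ht
    have h3 : t ^ Nat.card T = 1 := by
      rw [← card_cj g T]
      exact congrArg Subtype.val (pow_card_eq_one' (x := (⟨t, ht⟩ : cj g T)))
    rw [Subgroup.mem_centralizer_singleton_iff, h2.mul_pow, h3, one_mul]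
    exact pow_mem hc _ x hx
  have h2 : n ^ Nat.card T ∈ Subgroup.centralizer (N : Set G) := fun x hx =>
    Subgroup.mem_centralizer_singleton_iff.1 (h1 hx)
  rwa [hc] at h2

end Min

variable [Finite G] {H : Subgroup G} {m : ℕ}

theorem exists_mul_normal (hH : Half H m) {N : Subgroup G} [N.Normal] (hN : N ≠ ⊥) (g : G) :
    ∃ h ∈ H, ∃ n ∈ N, g = h * n := by
  have h1 : H ⊔ N = ⊤ :=
    hH.max.2 _ (lt_of_le_of_ne le_sup_left fun h => hN (hH.eq_bot_of_normal (h ▸ le_sup_right)))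
  have h2 : g ∈ ((H ⊔ N : Subgroup G) : Set G) := by rw [h1]; trivial
  rw [Subgroup.mul_normal] at h2
  obtain ⟨h, hh, n, hn, rfl⟩ := h2
  exact ⟨h, hh, n, hn, rfl⟩

/-- a normal subgroup meeting `H` together with its centraliser -/
theorem centralizer_eq_bot (hH : Half H m) (hreg : ∀ M : Subgroup G, M.Normal → M ≠ ⊥ → H ⊓ M ≠ ⊥) {N : Subgroup G}
    [N.Normal] (hN : N ≠ ⊥) : Subgroup.centralizer (N : Set G) = ⊥ := by
  by_contra hc
  refine hreg _ inferInstance hc (hH.eq_bot_of_le fun g x hx => ?_)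
  obtain ⟨h, hh, n, hn, hg⟩ := exists_mul_normal hH hN g⁻¹
  have h1 : n * x = x * n := hx.2 n hn
  have h2 : g = n⁻¹ * h⁻¹ := by rw [← mul_inv_rev, ← hg, inv_inv]
  have h3 : g⁻¹ * x * g = h * x * h⁻¹ := by
    rw [hg, h2, mul_assoc h n x, h1]
    group
  rw [mem_cj, h3]
  exact mul_mem (mul_mem hh hx.1) (inv_mem hh)

theorem relIndex_dvd_index {N T : Subgroup G} [N.Normal] (h : MinN N T) : H.relIndex T ∣ H.index := by
  have : (T.subgroupOf N).Normal :=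
    Subgroup.normal_subgroupOf_of_le_normalizer fun n hn => mem_normalizer_of_cj_eq (h.norm n hn)
  have h1 := relIndex_dvd_index_of_normal_right (H.subgroupOf N) (T.subgroupOf N)
  rw [Subgroup.relIndex_subgroupOf h.le] at h1
  exact h1.trans (relIndex_dvd_index_of_normal_right H N)

theorem normalizer_le (hH : Half H m) {N T : Subgroup G} [N.Normal] (h : MinN N T) (hne : H ⊓ T ≠ ⊥) {t : G}
    (ht : t ∈ T) (hn : cj t (H ⊓ T) = H ⊓ T) : t ∈ H := by
  let E : Set G := {x | x ∈ H ∧ ∃ S, MinN N S ∧ x ∈ S}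
  have h0 : ∀ g : G, (∀ x ∈ E, g * x * g⁻¹ ∈ E) → (∀ x ∈ E, g⁻¹ * x * g⁻¹⁻¹ ∈ E) → g ∈ Subgroup.normalizer E :=
    fun g h1 h2 x => ⟨h1 x, fun hx => by simpa [mul_assoc] using h2 _ hx⟩
  have h1 : ∀ g ∈ H, ∀ x ∈ E, g * x * g⁻¹ ∈ E := by
    rintro g hg x ⟨hx, S, hS, hxS⟩
    exact ⟨mul_mem (mul_mem hg hx) (inv_mem hg), cj g S, hS.conj g, conj_mem_cj g hxS⟩
  have h2 : ∀ g ∈ T, cj g (H ⊓ T) = H ⊓ T → ∀ x ∈ E, g * x * g⁻¹ ∈ E := by
    rintro g hg hg' x ⟨hx, S, hS, hxS⟩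
    by_cases hST : T = S
    · subst hST
      have h3 : g * x * g⁻¹ ∈ H ⊓ T := hg' ▸ conj_mem_cj g ⟨hx, hxS⟩
      exact ⟨h3.1, T, h, h3.2⟩
    · rw [(h.commute hS hST hg hxS).eq, mul_inv_cancel_right]
      exact ⟨hx, S, hS, hxS⟩
  have h3 : Subgroup.normalizer E = H := by
    by_contra hne'
    have h4 : Subgroup.normalizer E = ⊤ := hH.max.2 _ (lt_of_le_of_ne
      (fun g hg => h0 g (h1 g hg) (h1 g⁻¹ (inv_mem hg))) (Ne.symm hne'))
    refine hne (hH.eq_bot_of_le fun g x hx => ?_)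
    have h5 : g⁻¹ ∈ Subgroup.normalizer E := by rw [h4]; trivial
    have h6 := ((h5 x).1 ⟨hx.1, T, h, hx.2⟩).1
    rw [mem_cj]
    simpa using h6
  rw [← h3]
  exact h0 t (h2 t ht hn) (h2 t⁻¹ (inv_mem ht) (by conv_lhs => rw [← hn, cj_inv_cj]))

theorem mem_of_mul (hH : Half H m) {N T : Subgroup G} [N.Normal] (h : MinN N T) (hne : H ⊓ T ≠ ⊥) {t c : G}
    (ht : t ∈ T) (hc : ∀ x ∈ T, Commute x c) (hl : t * c ∈ H) : t ∈ H := by
  refine normalizer_le hH h hne ht (cj_eq_of_le ?_)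
  rintro _ ⟨x, hx, rfl⟩
  show t * x * t⁻¹ ∈ H ⊓ T
  refine ⟨?_, T.mul_mem (T.mul_mem ht hx.2) (T.inv_mem ht)⟩
  have h1 : t * x * t⁻¹ = t * c * x * (t * c)⁻¹ := by
    rw [mul_assoc t c, ← (hc x hx.2).eq]
    group
  rw [h1]
  exact H.mul_mem (H.mul_mem hl hx.1) (H.inv_mem hl)

/-- a subset of a group with at least half of the elements in a subgroup: squares lie in the subgroup -/
theorem sq_mem_of_card_le {A B : Subgroup G} (hle : A ≤ B) (h : Nat.card B ≤ 2 * Nat.card A) {x : G} (hx : x ∈ B) :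
    x ^ 2 ∈ A := by
  have h1 := (A.subgroupOf B).card_mul_index
  rw [Nat.card_congr (Subgroup.subgroupOfEquivOfLe hle).toEquiv] at h1
  have h2 : 0 < Nat.card A := Nat.card_pos
  have h3 : (A.subgroupOf B).index ≤ 2 := by
    rw [← h1, mul_comm] at h
    exact Nat.le_of_mul_le_mul_right h h2
  have h4 : (A.subgroupOf B).index ≠ 0 := Subgroup.index_ne_zero_of_finite
  have h5 : (A.subgroupOf B).index = 1 ∨ (A.subgroupOf B).index = 2 := by omega
  rcases h5 with h5 | h5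
  · rw [Subgroup.index_eq_one, Subgroup.subgroupOf_eq_top] at h5
    exact h5 (pow_mem hx 2)
  · exact Subgroup.sq_mem_of_index_two h5 ⟨x, hx⟩

theorem card_le_two_mul {K A : Subgroup G} (h : ∀ x ∈ K, ∀ y ∈ K, x ∉ A → y ∉ A → x * y ∈ A) :
    Nat.card K ≤ 2 * Nat.card ↥(K ⊓ A) := by
  classical
  by_cases h0 : K ≤ A
  · rw [inf_eq_left.2 h0]
    omega
  obtain ⟨x, hx, hxA⟩ := Set.not_subset.1 h0
  rw [← Nat.card_eq_fintype_card.symm.trans (Nat.card_eq_fintype_card (α := Bool)) |>.trans Fintype.card_bool,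
    ← Nat.card_eq_fintype_card, ← Nat.card_prod]
  refine Nat.card_le_card_of_injective (fun y => if hy : (y : G) ∈ A then (true, ⟨y, y.2, hy⟩)
    else (false, ⟨x * y, mul_mem hx y.2, h x hx y y.2 hxA hy⟩)) fun y z hyz => ?_
  by_cases hy : (y : G) ∈ A <;> by_cases hz : (z : G) ∈ A <;> simp only [hy, hz, dite_true, dite_false] at hyz
  · exact Subtype.ext (congrArg (fun w => (w.2 : G)) hyz)
  · exact absurd (congrArg Prod.fst hyz) (by simp)
  · exact absurd (congrArg Prod.fst hyz) (by simp)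
  · exact Subtype.ext (mul_left_cancel (congrArg (fun w => (w.2 : G)) hyz))

theorem sq_mem_cj (hH : Half H m) {N T₁ T₂ : Subgroup G} [N.Normal] (h₁ : MinN N T₁) (h₂ : MinN N T₂) (hne : T₁ ≠ T₂)
    (hR : H ⊓ T₂ ≠ ⊥) {t₁ t₂ : G} (ht₁ : t₁ ∈ T₁) (ht₁' : t₁ ∉ H) (ht₂ : t₂ ∈ T₂) {r : G} (hr : r ∈ H ⊓ T₂) :
    r ^ 2 ∈ cj t₂ H := by
  by_cases ht₂' : t₂ ∈ H
  · rw [cj_of_mem ht₂']
    exact pow_mem hr.1 2
  have hc : ∀ {S : Subgroup G}, MinN N S → S ≠ T₂ → ∀ {a : G}, a ∈ S → ∀ x ∈ T₂, Commute x a :=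
    fun hS hS' a ha x hx => (hS.commute h₂ hS' ha hx).symm
  have h12 : Commute t₂ t₁ := hc h₁ hne ht₁ t₂ ht₂
  have hg : t₁ * t₂ ∉ H := fun h => ht₂' (mem_of_mul hH h₂ hR ht₂ (hc h₁ hne ht₁) (h12.eq ▸ h))
  let K := H ⊓ cj (t₁ * t₂) H
  have hK : ∀ h ∈ K, t₂⁻¹ * (t₁⁻¹ * ((h * t₁ * h⁻¹) * (h * t₂ * h⁻¹))) ∈ H := fun h hh => by
    have h1 := mul_mem (mem_cj.1 hh.2) (inv_mem hh.1)
    have h2 : t₂⁻¹ * (t₁⁻¹ * ((h * t₁ * h⁻¹) * (h * t₂ * h⁻¹))) = (t₁ * t₂)⁻¹ * h * (t₁ * t₂) * h⁻¹ := by group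
    rwa [h2]
  have hA : ∀ h ∈ K, cj h T₂ ≠ T₂ → cj h T₁ = T₂ := fun h hh h1 => by
    by_contra h2
    refine ht₂' (inv_mem_iff.1 (mem_of_mul hH h₂ hR (inv_mem ht₂) (fun x hx => ?_) (hK h hh)))
    exact (hc h₁ hne (inv_mem ht₁) x hx).mul_right
      ((hc (h₁.conj h) h2 (conj_mem_cj h ht₁) x hx).mul_right (hc (h₂.conj h) h1 (conj_mem_cj h ht₂) x hx))
  have hB : K ⊓ Subgroup.normalizer (T₂ : Set G) ≤ (H ⊓ cj t₁ H) ⊓ cj t₂ H := by
    rintro h ⟨hh, hn⟩
    have h1 : cj h T₂ = T₂ := cj_eq_of_mem_normalizer hn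
    have h2 : cj h T₁ ≠ T₂ := fun h2 => hne (by rw [← cj_inv_cj h T₁, h2, ← h1, cj_inv_cj, h1])
    have h3 : h * t₂ * h⁻¹ ∈ T₂ := h1 ▸ conj_mem_cj h ht₂
    have h4 : ∀ x ∈ T₂, Commute x (t₁⁻¹ * (h * t₁ * h⁻¹)) := fun x hx =>
      (hc h₁ hne (inv_mem ht₁) x hx).mul_right (hc (h₁.conj h) h2 (conj_mem_cj h ht₁) x hx)
    have h5 : t₂⁻¹ * (h * t₂ * h⁻¹) * (t₁⁻¹ * (h * t₁ * h⁻¹)) ∈ H := by
      rw [mul_assoc, (h4 _ h3).eq, mul_assoc]
      exact hK h hh
    have h6 := mem_of_mul hH h₂ hR (mul_mem (inv_mem ht₂) h3) h4 h5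
    have h7 := (H.mul_mem_cancel_left h6).1 h5
    refine ⟨⟨hh.1, mem_cj.2 ?_⟩, mem_cj.2 ?_⟩
    · simpa [mul_assoc] using mul_mem h7 hh.1
    · simpa [mul_assoc] using mul_mem h6 hh.1
  have h1 : Nat.card K ≤ 2 * Nat.card ↥(K ⊓ Subgroup.normalizer (T₂ : Set G)) := by
    refine card_le_two_mul fun x hx y hy hx' hy' => mem_normalizer_of_cj_eq ?_
    have h2 := hA x hx fun h => hx' (mem_normalizer_of_cj_eq h)
    have h3 := hA y⁻¹ (inv_mem hy) fun h => hy' (inv_mem_iff.1 (mem_normalizer_of_cj_eq h))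
    rw [cj_mul]
    conv_lhs => rw [← h3, cj_cj_inv]
    exact h2
  have h2 : Nat.card ↥(H ⊓ cj t₁ H) ≤ 2 * Nat.card ↥((H ⊓ cj t₁ H) ⊓ cj t₂ H) := by
    rw [hH.card_inf t₁ ht₁', ← hH.card_inf _ hg]
    exact h1.trans (Nat.mul_le_mul_left 2 (Subgroup.card_le_of_le hB))
  refine (sq_mem_of_card_le inf_le_left h2 ⟨hr.1, mem_cj.2 ?_⟩).2
  rw [mul_assoc, (hc h₁ hne ht₁ r hr.2).eq, inv_mul_cancel_left]
  exact hr.1

/-- **The reduction**: without regular normal subgroups the group is almost simple. -/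
theorem exists_AS (hH : Half H m) (hreg : ∀ M : Subgroup G, M.Normal → M ≠ ⊥ → H ⊓ M ≠ ⊥) : ∃ T : Subgroup G, AS T := by
  have htop : (⊤ : Subgroup G) ≠ ⊥ := fun h => hH.ne_bot (eq_bot_iff.2 (h ▸ le_top))
  obtain ⟨N, hN0⟩ := exists_minN htop
  have hN : N.Normal := ⟨fun n hn g => hN0.conj_mem (Subgroup.mem_top g) hn⟩
  have hmin : ∀ M : Subgroup G, M.Normal → M ≤ N → M = ⊥ ∨ M = N := fun M hM h =>
    hN0.min M h fun g _ => cj_normal M g
  have hc := centralizer_eq_bot hH hreg hN0.ne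
  obtain ⟨T, hT⟩ := exists_minN hN0.ne
  by_cases hTN : T = N
  · subst hTN
    refine ⟨T, hN, hT.simple hmin, fun h => hT.ne (eq_bot_iff.2 fun x hx => ?_), hc⟩
    rw [← hc]
    intro y hy
    exact congrArg Subtype.val (h.1.1 (⟨y, hy⟩ : T) ⟨x, hx⟩)
  exfalso
  obtain ⟨g, hg⟩ : ∃ g, cj g T ≠ T := by
    by_contra h
    push Not at h
    exact hTN (le_antisymm hT.le (le_of_forall hmin hT fun g => (h g).le))
  have hnot : ∀ S, MinN N S → ¬ S ≤ H := fun S hS hle => by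
    refine hN0.ne (hH.eq_bot_of_normal (le_of_forall hmin hS fun a => ?_))
    obtain ⟨h, hh, n, hn, rfl⟩ := exists_mul_normal hH hN0.ne a
    rw [cj_mul, hS.norm n hn, ← cj_of_mem hh]
    exact cj_mono h hle
  obtain ⟨r, hr, hr1, hr2⟩ := hH.exists_prime_dvd (hreg N hN hN0.ne) inf_le_left fun h hh =>
    mem_normalizer_of_cj_eq (by rw [cj_inf, cj_of_mem hh, cj_normal])
  have := Fact.mk hr
  have hrT : r ∣ Nat.card T := by
    obtain ⟨x, hx⟩ := exists_prime_orderOf_dvd_card' r hr1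
    rw [← hx, ← Subgroup.orderOf_coe]
    exact orderOf_dvd_of_pow_eq_one (pow_card_eq_one hmin hc hT x.2.2)
  have hri : ¬ r ∣ (H.subgroupOf T).index := fun h => hH.not_dvd_index hr hr2 (h.trans (relIndex_dvd_index hT))
  have hrR : r ∣ Nat.card (H.subgroupOf T) := by
    rw [← (H.subgroupOf T).card_mul_index] at hrT
    exact (hr.dvd_mul.1 hrT).resolve_right hri
  have hR' : H.subgroupOf T ≠ ⊥ := fun h => by
    rw [h, Subgroup.card_bot, Nat.dvd_one] at hrR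
    exact hr.one_lt.ne' hrR
  have hR : H ⊓ T ≠ ⊥ := fun h => hR' (by rw [Subgroup.subgroupOf_eq_bot, disjoint_iff, h])
  obtain ⟨t₁, ht₁, ht₁'⟩ := Set.not_subset.1 (hnot _ (hT.conj g))
  have hs := hT.simple hmin
  have hcore : (H.subgroupOf T).normalCore = ⊥ := by
    rcases hs.eq_bot_or_eq_top_of_normal _ (H.subgroupOf T).normalCore_normal with h | h
    · exact h
    · exact absurd (Subgroup.subgroupOf_eq_top.1 (eq_top_iff.2 (h ▸ (H.subgroupOf T).normalCore_le))) (hnot T hT)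
  have hsq : ∀ x ∈ H.subgroupOf T, x ^ 2 = 1 := fun x hx => by
    rw [← Subgroup.mem_bot, ← hcore]
    intro t
    have h1 := mem_cj.1 (sq_mem_cj hH (hT.conj g) hT hg hR ht₁ ht₁' (inv_mem t.2) (r := x) ⟨hx, x.2⟩)
    rw [inv_inv] at h1
    exact h1
  have hr' : r = 2 := by
    obtain ⟨x, hx⟩ := exists_prime_orderOf_dvd_card' r hrR
    have h1 : orderOf x ∣ 2 := orderOf_dvd_of_pow_eq_one (Subtype.ext (hsq x x.2))
    rw [hx] at h1
    exact (Nat.prime_dvd_prime_iff_eq hr Nat.prime_two).1 h1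
  subst hr'
  have hp : IsPGroup 2 (H.subgroupOf T) := fun x => ⟨1, Subtype.ext (by simpa using hsq x x.2)⟩
  let P : Sylow 2 T := hp.toSylow hri
  have hP : Subgroup.normalizer ((P : Subgroup T) : Set T) ≤ Subgroup.centralizer ((P : Subgroup T) : Set T) := by
    intro t ht x hx
    have h1 : t ∈ H.subgroupOf T := by
      refine normalizer_le hH hT hR t.2 (cj_eq_of_le ?_)
      rintro _ ⟨y, hy, rfl⟩
      exact ⟨(ht ⟨y, hy.2⟩).1 hy.1, T.mul_mem (T.mul_mem t.2 hy.2) (T.inv_mem t.2)⟩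
    have h2 := hsq _ (mul_mem (show x ∈ H.subgroupOf T from hx) h1)
    have h3 := hsq _ (show x ∈ H.subgroupOf T from hx)
    have h4 := hsq _ h1
    rw [pow_two, mul_eq_one_iff_eq_inv] at h2 h3 h4
    rw [h2, mul_inv_rev, ← h3, ← h4]
  have hcomp := MonoidHom.ker_transferSylow_isComplement' P hP
  rcases hs.eq_bot_or_eq_top_of_normal _ (MonoidHom.transferSylow P hP).normal_ker with h | h
  · rw [h, Subgroup.isComplement'_bot_left] at hcomp
    exact hnot T hT (Subgroup.subgroupOf_eq_top.1 hcomp)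
  · rw [h, Subgroup.isComplement'_top_left] at hcomp
    exact hR' hcomp

end Cfsg.Agent.TH.Red
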