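import Mathlib
import Cfsg.Prelude.Def_Transfer
import Cfsg.Agent.TH.RedAS
import Cfsg.Agent.PermutationGroups.TwoTransitiveNormal
import Cfsg.Agent.S3356

/-!
# S3541 from the almost simple case (helper71)
-/

set_option autoImplicit false
set_option linter.unusedSectionVars false

namespace Cfsg.Agent.TH.Red

open MulAction

theorem concl_of_allAS (h : AllAS) {G : Type*} [Group G] [Finite G] {T H : Subgroup G} {m : ℕ} (hT : AS T)
    (hH : Half H m) : Concl H := by
  let e : G ≃* Shrink.{0} G := (@Shrink.mulEquiv.{0} G _ _).symm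
  have : Finite (Shrink.{0} G) := Finite.of_equiv G e.toEquiv
  exact Concl.of_map e (h _ _ _ m (hT.map e) (hH.map e) trivial)

section

variable {G Ω : Type*} [Group G] [MulAction G Ω]

theorem stabilizer_smul (g : G) (a : Ω) : stabilizer G (g • a) = cj g (stabilizer G a) := by
  ext x
  rw [mem_cj, mem_stabilizer_iff, mem_stabilizer_iff, mul_smul, mul_smul, inv_smul_eq_iff]

theorem card_orbit_mul (a b : Ω) :
    Nat.card (orbit (stabilizer G a) b) * Nat.card ↥(stabilizer G a ⊓ stabilizer G b) =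
      Nat.card (stabilizer G a) := by
  have h1 : Nat.card (stabilizer (stabilizer G a) b) = Nat.card ↥(stabilizer G a ⊓ stabilizer G b) :=
    Nat.card_congr
      { toFun := fun x => ⟨x.1.1, x.1.2, x.2⟩
        invFun := fun x => ⟨⟨x.1, x.2.1⟩, x.2.2⟩
        left_inv := fun _ => rfl
        right_inv := fun _ => rfl }
  rw [← h1, ← Nat.card_prod]
  exact Nat.card_congr (orbitProdStabilizerEquivGroup _ b)

end

/-- **S3541 from the almost simple case.** -/
theorem main_of (h : AllAS) {G Ω : Type*} [Group G] [Finite G] [MulAction G Ω] [FaithfulSMul G Ω] [Finite Ω]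
    (htrans : MulAction.IsPretransitive G Ω) (hne : ∀ a : Ω, MulAction.stabilizer G a ≠ ⊥)
    (hhalf : ∀ a b c : Ω, b ≠ a → c ≠ a →
      Nat.card (MulAction.orbit (MulAction.stabilizer G a) b) = Nat.card (MulAction.orbit (MulAction.stabilizer G a) c)) :
    MulAction.IsMultiplyPretransitive G Ω 2 ∨
    (∀ g : G, g ≠ 1 → Nat.card (MulAction.fixedBy Ω g) ≤ 1) ∨
    (∃ (N : Subgroup G) (p : ℕ), p.Prime ∧ N.Normal ∧ Cfsg.IsElementaryAbelian p N ∧
      MulAction.IsPretransitive N Ω ∧ ∀ a : Ω, MulAction.stabilizer N a = ⊥) ∨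
    (Nat.card Ω = 21 ∧ (Nonempty (G ≃* alternatingGroup (Fin 7)) ∨ Nonempty (G ≃* Equiv.Perm (Fin 7)))) ∨
    (∃ f : ℕ, 3 ≤ f ∧ Nat.card Ω = 2 ^ (f - 1) * (2 ^ f - 1) ∧
      ∃ N : Subgroup G, N.Normal ∧
        Nonempty (↥N ≃* Matrix.ProjectiveSpecialLinearGroup (Fin 2) (GaloisField 2 f))) := by
  by_cases h2 : MulAction.IsMultiplyPretransitive G Ω 2
  · exact Or.inl h2
  by_cases hF : ∀ g : G, g ≠ 1 → Nat.card (MulAction.fixedBy Ω g) ≤ 1
  · exact Or.inr (Or.inl hF)
  refine Or.inr (Or.inr ?_)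
  push Not at hF
  obtain ⟨g₀, hg₀, hfix⟩ := hF
  obtain ⟨⟨a, ha⟩, ⟨b, hb⟩, hab⟩ := Finite.one_lt_card_iff_nontrivial.1 hfix
  have hab' : a ≠ b := fun h => hab (Subtype.ext h)
  have hg₀' : g₀ ∈ stabilizer G a ⊓ stabilizer G b := ⟨ha, hb⟩
  have hbot : stabilizer G a ⊓ stabilizer G b ≠ ⊥ := fun h => hg₀ (by rwa [h] at hg₀')
  have hfaith : ∀ g : G, (∀ x : Ω, g • x = x) → g = 1 := fun g hg =>
    FaithfulSMul.eq_of_smul_eq_smul (α := Ω) fun x => by rw [hg, one_smul]
  obtain ⟨m, hm⟩ : ∃ m, m = Nat.card ↥(stabilizer G a ⊓ stabilizer G b) := ⟨_, rfl⟩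
  have hcard1 : ∀ c, c ≠ a → Nat.card ↥(stabilizer G a ⊓ stabilizer G c) = m := fun c hc => by
    have h1 := card_orbit_mul (G := G) a c
    rw [hhalf a c b hc hab'.symm, ← card_orbit_mul (G := G) a b, ← hm] at h1
    have : Nonempty (orbit (stabilizer G a) b) := ⟨⟨b, mem_orbit_self b⟩⟩
    exact Nat.eq_of_mul_eq_mul_left Nat.card_pos h1
  have hcard : ∀ c d : Ω, c ≠ d → Nat.card ↥(stabilizer G c ⊓ stabilizer G d) = m := fun c d hcd => by
    obtain ⟨g, rfl⟩ := exists_smul_eq G a c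
    rw [← smul_inv_smul g d, stabilizer_smul, stabilizer_smul g, ← cj_inf, card_cj]
    exact hcard1 _ fun h => hcd (by rw [← h, smul_inv_smul])
  have hprim : IsPreprimitive G Ω := by
    rcases PermutationGroups.TwoTransitiveNormal.isPreprimitive_or_of_card_inf_stabilizer_eq hcard with h1 | h1
    · exact h1
    · exact absurd (hfaith g₀ (h1 a b hab' g₀ hg₀')) hg₀
  have hnt : Nontrivial Ω := ⟨a, b, hab'⟩
  have hH : Half (stabilizer G a) m :=
    { max := (isCoatom_stabilizer_iff_preprimitive G a).2 hprim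
      core := eq_bot_iff.2 fun x hx => hfaith x fun c => by
        obtain ⟨g, rfl⟩ := exists_smul_eq G a c
        exact (stabilizer_smul g a).ge (le_normalCore_iff.1 le_rfl g hx)
      card_inf := fun g hg => by
        rw [← stabilizer_smul]
        exact hcard1 _ hg
      one_lt := by
        rw [hm]
        exact Subgroup.one_lt_card_iff_ne_bot _ |>.2 hbot
      not_two := by
        by_contra hcon
        push Not at hcon
        refine h2 (is_two_pretransitive_iff.2 fun {x y z w} hxy hzw => ?_)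
        obtain ⟨u, rfl⟩ := exists_smul_eq G a x
        obtain ⟨v, rfl⟩ := exists_smul_eq G a z
        obtain ⟨g, hg⟩ := exists_smul_eq G a (u⁻¹ • y)
        obtain ⟨g', hg'⟩ := exists_smul_eq G a (v⁻¹ • w)
        obtain ⟨k, hk, k', hk', hkk⟩ := hcon g g'
          (fun h1 => hxy (by rw [← smul_inv_smul u y, ← hg, mem_stabilizer_iff.1 h1]))
          (fun h1 => hzw (by rw [← smul_inv_smul v w, ← hg', mem_stabilizer_iff.1 h1]))
        refine ⟨v * k * u⁻¹, ?_, ?_⟩
        · rw [mul_smul, inv_smul_smul, mul_smul, mem_stabilizer_iff.1 hk]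
        · rw [mul_smul, ← hg, mul_smul, ← smul_inv_smul v w, ← hg', hkk, mul_smul, mul_smul,
            mem_stabilizer_iff.1 hk'] }
  by_cases hreg : ∀ M : Subgroup G, M.Normal → M ≠ ⊥ → stabilizer G a ⊓ M ≠ ⊥
  · right
    obtain ⟨T, hT⟩ := exists_AS hH hreg
    have h1 := concl_of_allAS h hT hH
    unfold Concl at h1
    rwa [index_stabilizer_of_transitive] at h1
  · left
    push Not at hreg
    obtain ⟨N, hN, hN1, hN2⟩ := hreg
    have hNt : IsPretransitive N Ω := ⟨fun x y => by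
      have h1 : ∀ z : Ω, ∃ n ∈ N, n • a = z := fun z => by
        obtain ⟨g, rfl⟩ := exists_smul_eq G a z
        obtain ⟨k, hk, n, hn, rfl⟩ := exists_mul_normal hH hN1 g
        refine ⟨k * n * k⁻¹, hN.conj_mem n hn k, ?_⟩
        rw [mul_smul (k * n), mem_stabilizer_iff.1 (inv_mem hk)]
      obtain ⟨n, hn, rfl⟩ := h1 x
      obtain ⟨n', hn', rfl⟩ := h1 y
      refine ⟨⟨n' * n⁻¹, mul_mem hn' (inv_mem hn)⟩, ?_⟩
      show (n' * n⁻¹) • n • a = n' • a
      rw [mul_smul, inv_smul_smul]⟩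
    have hNr : ∀ c : Ω, stabilizer N c = ⊥ := fun c => eq_bot_iff.2 fun x hx => by
      obtain ⟨g, rfl⟩ := exists_smul_eq G a c
      have h1 : (x : G) ∈ stabilizer G (g • a) ⊓ cj g N := ⟨hx, (cj_normal N g).ge x.2⟩
      rw [stabilizer_smul, ← cj_inf, hN2, cj_bot, Subgroup.mem_bot] at h1
      exact Subtype.ext h1
    obtain ⟨⟨p, hp, h3, h4⟩, -⟩ := Cfsg.Agent.S3356.result htrans hne hhalf N hNt hNr ⟨a, b, hab', hbot⟩
    exact ⟨N, p, hp, hN, ⟨h3, h4⟩, hNt, hNr⟩

end Cfsg.Agent.TH.Red
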