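import Mathlib
import Cfsg.Agent.TH.Red
import Cfsg.Agent.H912.KnownSplit
import Cfsg.Agent.S0252
import Cfsg.Agent.S0254

/-!
# S3541: the almost simple case from the rows (helper71)
-/

set_option autoImplicit false
set_option linter.unusedSectionVars false

namespace Cfsg.Agent.TH

/-- `T ≅ PSL₂(q)` with `q ≥ 4` -/
def IsL2 (T : Type*) [Group T] : Prop :=
  ∃ (F : Type) (_ : Field F) (_ : Fintype F), 4 ≤ Fintype.card F ∧
    Nonempty (T ≃* Matrix.ProjectiveSpecialLinearGroup (Fin 2) F)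

/-- socles of Lie type other than `PSL₂(q)` and the alternating groups -/
def RowLie : Prop :=
  NoRow fun T _ => ∃ p : ℕ, p.Prime ∧ Cfsg.IsLieTypeChar p T ∧ ¬ IsL2 T ∧ ¬ Cfsg.IsAlternating T

theorem isL2_of_alt {T : Type*} [Group T] {c : ℕ} (h5 : 5 ≤ c) (h7 : c < 7) (e : T ≃* alternatingGroup (Fin c)) :
    IsL2 T := by
  have h : c = 5 ∨ c = 6 := by omega
  rcases h with rfl | rfl
  · have := Fintype.ofFinite (GaloisField 2 2)
    have h1 : Fintype.card (GaloisField 2 2) = 4 := by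
      rw [← Nat.card_eq_fintype_card, GaloisField.card 2 2 (by norm_num)]
      norm_num
    obtain ⟨e'⟩ := Cfsg.Agent.S0252.result h1
    exact ⟨GaloisField 2 2, inferInstance, this, h1.ge, ⟨e.trans e'.symm⟩⟩
  · have := Fintype.ofFinite (GaloisField 3 2)
    have h1 : Fintype.card (GaloisField 3 2) = 9 := by
      rw [← Nat.card_eq_fintype_card, GaloisField.card 3 2 (by norm_num)]
      norm_num
    obtain ⟨e'⟩ := Cfsg.Agent.S0254.result h1
    exact ⟨GaloisField 3 2, inferInstance, this, by omega, ⟨e.trans e'.symm⟩⟩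

theorem allAS_of (hcfsg : ∀ (T : Type) [Group T] [Finite T] [IsSimpleGroup T], Cfsg.IsKnownSimple' T)
    (hA : RowAlt) (hL : RowPSL2) (hS : RowSpor) (hT : RowTits) (hLie : RowLie) : AllAS := by
  intro G _ _ T H m hAS hH _
  have := hAS.simple
  by_cases h2 : IsL2 T
  · exact hL G T H m hAS hH h2
  by_cases ha : Cfsg.IsAlternating T
  · obtain ⟨c, h5, ⟨e⟩⟩ := ha
    by_cases h7 : c < 7
    · exact absurd (isL2_of_alt h5 h7 e) h2
    · exact hA G T H m hAS hH ⟨c, by omega, ⟨e⟩⟩
  have hc : ¬ Cfsg.IsPrimeCyclic T := fun h => by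
    have : Fact (Nat.card T).Prime := ⟨h⟩
    have := isCyclic_of_prime_card (α := T) rfl
    exact hAS.nonab inferInstance
  rcases H912.Known.known_split (hcfsg T) hc with h | ⟨p, hp, h⟩ | h | h
  · exact absurd h ha
  · exact (hLie G T H m hAS hH ⟨p, hp, h, h2, ha⟩).elim
  · exact (hT G T H m hAS hH h).elim
  · exact (hS G T H m hAS hH h).elim

end Cfsg.Agent.TH
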