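import Mathlib
import Cfsg.Prelude.Def_Local
import Cfsg.Agent.TH.Rows

/-!
# S3541: the boxes for the socles of Lie type (captain helper73)

`LieCtx T H m p` is the standing hypothesis.  `HasOwn p H`: `H` has a component of Lie type in characteristic `p`.
* `BoxOwn` : uniform argument when `H` has such a component;
* `NonOwn P` : no such component, socle in the family `P` (one box for each family).
All boxes may use the classification `AllK`.
-/

set_option autoImplicit false

namespace Cfsg.Agent.TH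

/-- the classification, as a hypothesis -/
def AllK : Prop := ∀ (X : Type) [Group X] [Finite X] [IsSimpleGroup X], Cfsg.IsKnownSimple' X

/-- the standing hypothesis for a socle of Lie type -/
structure LieCtx {G : Type*} [Group G] (T H : Subgroup G) (m p : ℕ) : Prop where
  as : AS T
  half : Half H m
  prime : p.Prime
  lie : Cfsg.IsLieTypeChar p ↥T
  notL2 : ¬ IsL2 ↥T
  notAlt : ¬ Cfsg.IsAlternating ↥T

/-- `H` has a component of Lie type in characteristic `p` -/
def HasOwn (p : ℕ) {G : Type*} [Group G] (H : Subgroup G) : Prop :=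
  ∃ E : Subgroup ↥H, Cfsg.IsComponent E ∧ Cfsg.IsLieTypeChar p (↥E ⧸ Subgroup.center ↥E)

/-- [OWN] the point stabiliser has a component of Lie type in the characteristic of the socle -/
def BoxOwn : Prop := AllK →
  ∀ (G : Type) [Group G] [Finite G] (T H : Subgroup G) (m p : ℕ), LieCtx T H m p → HasOwn p H → False

/-- no component of Lie type in the characteristic of the socle, socle in the family `P` -/
def NonOwn (P : ℕ → ∀ (T : Type) [Group T], Prop) : Prop := AllK →
  ∀ (G : Type) [Group G] [Finite G] (T H : Subgroup G) (m p : ℕ), LieCtx T H m p → ¬ HasOwn p H → P p ↥T → False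

def BoxL : Prop := NonOwn fun p T _ => Cfsg.IsPSLChar p T
def BoxSp : Prop := NonOwn fun p T _ => Cfsg.IsPSpChar p T
def BoxU : Prop := NonOwn fun p T _ => Cfsg.IsPSUChar p T
def BoxO : Prop := NonOwn fun p T _ => Cfsg.IsPOmegaOddChar p T
def BoxOp : Prop := NonOwn fun p T _ => Cfsg.IsPOmegaPlusChar p T
def BoxOm : Prop := NonOwn fun p T _ => Cfsg.IsPOmegaMinusChar p T

/-- a Chevalley group of the datum `D` over a finite field of characteristic `p` with at least `k` elements -/
def ChevChar (D : Cfsg.Lie.ChevalleyDatum) (k p : ℕ) (T : Type*) [Group T] : Prop :=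
  ∃ (F : Type) (_ : Field F) (_ : Fintype F) (_ : CharP F p), k ≤ Fintype.card F ∧ Nonempty (T ≃* D.group F)

def BoxG2 : Prop := NonOwn fun p T _ => ChevChar Cfsg.Lie.chevG2 3 p T
def BoxF4 : Prop := NonOwn fun p T _ => ChevChar Cfsg.Lie.chevF4 0 p T
def BoxE6 : Prop := NonOwn fun p T _ => ChevChar Cfsg.Lie.chevE6 0 p T
def BoxE7 : Prop := NonOwn fun p T _ => ChevChar Cfsg.Lie.chevE7 0 p T
def BoxE8 : Prop := NonOwn fun p T _ => ChevChar Cfsg.Lie.chevE8 0 p T
def Box2E6 : Prop := NonOwn fun p T _ =>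
  ∃ (K : Type) (_ : Field K) (_ : Fintype K) (_ : CharP K p) (q : ℕ), IsPrimePow q ∧
    Fintype.card K = q ^ 2 ∧ Nonempty (T ≃* Cfsg.Lie.twistedE6 K q)
def Box3D4 : Prop := NonOwn fun p T _ =>
  ∃ (K : Type) (_ : Field K) (_ : Fintype K) (_ : CharP K p) (q : ℕ), IsPrimePow q ∧
    Fintype.card K = q ^ 3 ∧ Nonempty (T ≃* Cfsg.Lie.twistedD4 K q)
def BoxSz : Prop := NonOwn fun p T _ => p = 2 ∧ Cfsg.Lie.IsoSuzuki T
def Box2F4 : Prop := NonOwn fun p T _ => p = 2 ∧ Cfsg.Lie.Iso2F4 T
def BoxRee : Prop := NonOwn fun p T _ => p = 3 ∧ Cfsg.Lie.IsoRee T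

/-- the classical boxes -/
structure BoxesCl : Prop where
  l : BoxL
  sp : BoxSp
  u : BoxU
  o : BoxO
  op : BoxOp
  om : BoxOm

/-- the exceptional boxes -/
structure BoxesEx : Prop where
  g2 : BoxG2
  f4 : BoxF4
  e6 : BoxE6
  e7 : BoxE7
  e8 : BoxE8
  te6 : Box2E6
  td4 : Box3D4
  sz : BoxSz
  tf4 : Box2F4
  ree : BoxRee

/-- **the assembly of the row of Lie type** -/
theorem rowLie_of (hK : AllK) (hO : BoxOwn) (hC : BoxesCl) (hE : BoxesEx) : RowLie := by
  rintro G _ _ T H m hT hH ⟨p, hp, hl, h2, ha⟩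
  have c : LieCtx T H m p := ⟨hT, hH, hp, hl, h2, ha⟩
  by_cases ho : HasOwn p H
  · exact hO hK G T H m p c ho
  rcases hl with h | h | h | h | h | h | h | h | h | h | h
  · exact hC.l hK G T H m p c ho h
  · exact hC.sp hK G T H m p c ho h
  · exact hC.u hK G T H m p c ho h
  · exact hC.o hK G T H m p c ho h
  · exact hC.op hK G T H m p c ho h
  · exact hC.om hK G T H m p c ho h
  · obtain ⟨F, i1, i2, i3, h | h | h | h | h⟩ := h
    · exact hE.g2 hK G T H m p c ho ⟨F, i1, i2, i3, h.1, h.2⟩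
    · exact hE.f4 hK G T H m p c ho ⟨F, i1, i2, i3, Nat.zero_le _, h⟩
    · exact hE.e6 hK G T H m p c ho ⟨F, i1, i2, i3, Nat.zero_le _, h⟩
    · exact hE.e7 hK G T H m p c ho ⟨F, i1, i2, i3, Nat.zero_le _, h⟩
    · exact hE.e8 hK G T H m p c ho ⟨F, i1, i2, i3, Nat.zero_le _, h⟩
  · obtain ⟨K, i1, i2, i3, q, hq, h | h⟩ := h
    · exact hE.te6 hK G T H m p c ho ⟨K, i1, i2, i3, q, hq, h.1, h.2⟩
    · exact hE.td4 hK G T H m p c ho ⟨K, i1, i2, i3, q, hq, h.1, h.2⟩
  · exact hE.sz hK G T H m p c ho h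
  · exact hE.tf4 hK G T H m p c ho h
  · exact hE.ree hK G T H m p c ho h

end Cfsg.Agent.TH
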