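import Mathlib
import Cfsg.Agent.FixBN.Disp
import Cfsg.Agent.FixBN.TraceSys

/-!
# S3541, parabolic case: lemmas on the building of a split (B,N)-pair

* `qq Δ x w` : the number of chambers at distance `w` from `x`, lower bounds for it;
* `orbit_eq_Res` : a subgroup containing `U x` has a residue as orbit;
* `not_cover` : for a simple group the Weyl group is not the product of two proper parabolic subgroups.
-/

set_option autoImplicit false
set_option linter.unusedSectionVars false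

namespace Cfsg.Agent.TH.Par

open Cfsg.Agent.Tits.Core Cfsg.Agent.Tits.Core.Bldg Cfsg.Agent.Tits.Exchange Cfsg.Agent.Tits Cfsg.Agent.FixBN

variable {I : Type*} {M : CoxeterMatrix I} {W : Type*} [Group W] {cs : CoxeterSystem M W} {C : Type*}

/-- the number of chambers at distance `w` from `x` -/
noncomputable def qq (Δ : Bldg cs C) (x : C) (w : W) : ℕ := Nat.card {y : C // Δ.δ x y = w}

theorem list_bound [DecidableEq I] (f : I → ℕ) (hf : ∀ i, 2 ≤ f i) (c : ℕ) (ω : List I) :
    ∀ B : Finset I, (∀ i ∈ B, i ∈ ω) → (∀ i ∈ B, c ≤ f i) →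
      ∃ k, k + B.card = ω.length ∧ c ^ B.card * 2 ^ k ≤ (ω.map f).prod := by
  induction ω with
  | nil =>
    intro B hB _
    have : B = ∅ := by
      rw [Finset.eq_empty_iff_forall_notMem]
      intro i hi
      simpa using hB i hi
    subst this
    exact ⟨0, by simp, by simp⟩
  | cons j ω ih =>
    intro B hB hc
    by_cases hj : j ∈ B
    · obtain ⟨k, hk, hk'⟩ := ih (B.erase j) (fun i hi => by
        have h1 := hB i (Finset.mem_of_mem_erase hi)
        rcases List.mem_cons.1 h1 with h2 | h2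
        · exact absurd h2 (Finset.ne_of_mem_erase hi)
        · exact h2) (fun i hi => hc i (Finset.mem_of_mem_erase hi))
      have h1 : (B.erase j).card + 1 = B.card := Finset.card_erase_add_one hj
      refine ⟨k, by rw [List.length_cons]; omega, ?_⟩
      rw [List.map_cons, List.prod_cons, ← h1, pow_succ', mul_assoc]
      exact Nat.mul_le_mul (hc j hj) hk'
    · obtain ⟨k, hk, hk'⟩ := ih B (fun i hi => by
        rcases List.mem_cons.1 (hB i hi) with h2 | h2
        · exact absurd (h2 ▸ hi) hj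
        · exact h2) hc
      refine ⟨k + 1, by rw [List.length_cons]; omega, ?_⟩
      rw [List.map_cons, List.prod_cons, pow_succ', mul_left_comm]
      exact Nat.mul_le_mul (hf j) hk'

section Count

variable {Δ : Bldg cs C} [Finite C]

theorem two_le_qq (hth : Δ.Thick) (x : C) (i : I) : 2 ≤ qq Δ x (cs.simple i) := by
  obtain ⟨y, z, hyz, hy, hz⟩ := hth x i
  have : Nontrivial {y : C // Δ.δ x y = cs.simple i} :=
    ⟨⟨⟨y, hy⟩, ⟨z, hz⟩, fun h => hyz (congrArg Subtype.val h)⟩⟩
  exact Finite.one_lt_card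

theorem one_le_qq (x : C) (w : W) : 1 ≤ qq Δ x w := by
  obtain ⟨y, hy⟩ := Δ.exists_δ x w
  have : Nonempty {y : C // Δ.δ x y = w} := ⟨⟨y, hy⟩⟩
  exact Nat.card_pos

variable {K : Type*} [Group K] [MulAction K C] {p : ℕ} (S : Sys Δ K p) (htr : ∀ x y : C, ∃ g : K, g • x = y)

include S htr

theorem qq_mul (x : C) {v w : W} (h : cs.length (v * w) = cs.length v + cs.length w) :
    qq Δ x v * qq Δ x w ≤ qq Δ x (v * w) := by
  choose g hg using htr x
  have h1 : ∀ z y : C, Δ.δ z (g z • y) = Δ.δ x y := fun z y => by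
    have := S.iso (g z) x y
    rwa [hg z] at this
  let f : {y : C // Δ.δ x y = v} × {y : C // Δ.δ x y = w} → {y : C // Δ.δ x y = v * w} :=
    fun a => ⟨g a.1 • a.2.1, Δ.δ_mul_of a.1.2 ((h1 _ _).trans a.2.2) h⟩
  have hf : Function.Injective f := by
    rintro ⟨⟨z, hz⟩, ⟨y, hy⟩⟩ ⟨⟨z', hz'⟩, ⟨y', hy'⟩⟩ hab
    have h2 : g z • y = g z' • y' := congrArg Subtype.val hab
    have h3 : z = z' := Δ.between_unique h hz ((h1 z y).trans hy) hz' (by rw [h2]; exact (h1 z' y').trans hy')
    subst h3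
    have h4 : y = y' := smul_left_cancel _ h2
    subst h4
    rfl
  unfold qq
  rw [← Nat.card_prod]
  exact Nat.card_le_card_of_injective f hf

theorem prod_le_qq (x : C) (ω : List I) (hω : cs.IsReduced ω) :
    (ω.map fun i => qq Δ x (cs.simple i)).prod ≤ qq Δ x (cs.wordProd ω) := by
  induction ω with
  | nil => simpa using one_le_qq x 1
  | cons i ω ih =>
    have hred : cs.IsReduced ω := by
      have := hω.drop 1
      simpa using this
    rw [List.map_cons, List.prod_cons, cs.wordProd_cons]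
    refine le_trans (Nat.mul_le_mul_left _ (ih hred)) (qq_mul S htr x ?_)
    have h1 := hω.eq
    rw [cs.wordProd_cons, List.length_cons] at h1
    rw [h1, cs.length_simple, hred.eq, add_comm]

theorem word_bound [DecidableEq I] (hth : Δ.Thick) (x : C) {ω : List I} (hω : cs.IsReduced ω) (c : ℕ)
    (B : Finset I) (hB : ∀ i ∈ B, i ∈ ω) (hc : ∀ i ∈ B, c ≤ qq Δ x (cs.simple i)) :
    ∃ k, k + B.card = ω.length ∧ c ^ B.card * 2 ^ k ≤ qq Δ x (cs.wordProd ω) := by
  obtain ⟨k, hk, hk'⟩ := list_bound (fun i => qq Δ x (cs.simple i)) (two_le_qq hth x) c ω B hB hc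
  exact ⟨k, hk, hk'.trans (prod_le_qq S htr x ω hω)⟩

end Count

section Tits

variable {Δ : Bldg cs C} {K : Type*} [Group K] [MulAction K C] {p : ℕ} (S : Sys Δ K p) [F : OppRes.Cox cs]

include S

theorem U_le_of_mem {X : Subgroup K} {x : C} (hX : S.U x ≤ X) {t : K} (ht : t ∈ X) : S.U (t • x) ≤ X := by
  intro u hu
  have h1 : t * (t⁻¹ * u * t) * t⁻¹ = u := by group
  rw [← h1, S.conj_mem_U_iff] at hu
  rw [← h1]
  exact mul_mem (mul_mem ht (hX hu)) (inv_mem ht)

/-- A subgroup containing `U x` has a residue as the orbit of `x`. -/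
theorem orbit_eq_Res (hth : Δ.Thick) {X : Subgroup K} {x : C} (hX : S.U x ≤ X) :
    ∃ J : Set I, ∀ y, y ∈ Δ.Res J x ↔ ∃ t ∈ X, t • x = y := by
  refine ⟨{i | ∃ t ∈ X, Δ.δ x (t • x) = cs.simple i}, fun y => ⟨fun hy => ?_, ?_⟩⟩
  · refine Δ.Res_induction (p := fun y => ∃ t ∈ X, t • x = y) ⟨1, one_mem _, one_smul _ _⟩ ?_ hy
    rintro _ - z i ⟨t', ht', hi⟩ hz ⟨t, ht, rfl⟩
    have h1 : Δ.δ x (t⁻¹ • z) = cs.simple i := by
      rw [← hz, ← S.iso t, smul_inv_smul]
    obtain ⟨u, hu, hu'⟩ := S.exists_move (hi.trans h1.symm)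
    refine ⟨t * u * t', mul_mem (mul_mem ht (hX hu)) ht', ?_⟩
    rw [mul_smul, mul_smul, hu', smul_inv_smul]
  · rintro ⟨t, ht, rfl⟩
    generalize hn : cs.length (Δ.δ x (t • x)) = n
    induction n using Nat.strong_induction_on generalizing t with
    | _ n ih =>
    by_cases h0 : Δ.δ x (t • x) = 1
    · rw [mem_Res, h0]; exact one_mem _
    obtain ⟨i, hi⟩ := cs.exists_leftDescent_of_ne_one h0
    rw [CoxeterSystem.IsLeftDescent] at hi
    obtain ⟨z, hz, hz'⟩ := exists_first Δ hi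
    obtain ⟨z', hz1, hz2, hz3⟩ := hth.exists_third (i := i) (x := x) x z
    have h1 : Δ.δ x z' = cs.simple i := Δ.δ_eq_of_mem_Pan (Δ.self_mem_Pan i x) hz1 hz2.symm
    have h2 : Δ.δ z' z = cs.simple i := Δ.δ_eq_of_mem_Pan hz1 (Δ.mem_Pan_of_δ hz) hz3
    have h3 : Δ.δ z' (t • x) = Δ.δ x (t • x) := by
      rw [Δ.step_lt_left h2, hz', cs.simple_mul_simple_cancel_left]
      rw [hz', cs.simple_mul_simple_cancel_left]
      exact hi
    have h4 : Δ.δ (t • x) x = Δ.δ (t • x) z' := by
      rw [Δ.symm x, Δ.symm z', h3]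
    obtain ⟨u, hu, hu'⟩ := S.exists_move h4
    have huX := U_le_of_mem S hX ht hu
    obtain ⟨v, hv, hv'⟩ := S.exists_move (h1.trans hz.symm)
    have h5 : Δ.δ x (((v * u)⁻¹ * t) • x) = cs.simple i * Δ.δ x (t • x) := by
      rw [← hz', ← S.iso (v * u), mul_smul (v * u)⁻¹, smul_inv_smul, mul_smul, hu', hv']
    have h6 := ih _ (by rw [← hn]; exact hi) ((v * u)⁻¹ * t)
      (mul_mem (inv_mem (mul_mem (hX hv) huX)) ht) (by rw [h5])
    rw [mem_Res, h5] at h6
    have h7 := mul_mem (simple_mem_WJ cs (J := {i | ∃ t ∈ X, Δ.δ x (t • x) = cs.simple i}) (i := i)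
      ⟨u, huX, by rw [hu', h1]⟩) h6
    rwa [cs.simple_mul_simple_cancel_left] at h7

/-- The unipotent radical of a proper residue is not trivial. -/
theorem exists_rad (hth : Δ.Thick) (x : C) {J : Set I} {i : I} (hi : i ∉ J) :
    ∃ u ∈ S.U x, u ≠ 1 ∧ ∀ y ∈ Δ.Res J x, u • y = y := by
  obtain ⟨x', hx'⟩ := Δ.exists_δ x (wJ cs J)
  obtain ⟨z, z', hne, hz, hz'⟩ := hth x' i
  have hl : cs.length (wJ cs J * cs.simple i) = cs.length (wJ cs J) + cs.length (cs.simple i) := by
    rw [cs.length_simple]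
    rcases cs.length_mul_simple (wJ cs J) i with h | h
    · exact h
    · exact absurd (F.descent_mem J _ (F.wJ_mem J) i (by omega)) hi
  have h1 := Δ.δ_mul_of hx' hz hl
  have h2 := Δ.δ_mul_of hx' hz' hl
  obtain ⟨u, hu, hu'⟩ := S.exists_move (h1.trans h2.symm)
  refine ⟨u, hu, ?_, S.fixRes hth hu hx' ?_⟩
  · rintro rfl
    rw [one_smul] at hu'
    exact hne hu'
  · refine Δ.between_unique hl (x := x) (z := z') ?_ ?_ hx' hz'
    · rw [S.δ_smul hu, hx']
    · rw [← hu', S.iso, hz]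

omit S in
theorem simple_notMem_WJ {J : Set I} {i : I} (hi : i ∉ J) : cs.simple i ∉ WJ cs J := fun h =>
  hi (F.descent_mem J _ h i (by rw [cs.simple_mul_simple_self, cs.length_one, cs.length_simple]; omega))

omit S in
theorem w0_notMem_WJ {J : Set I} {i : I} (hi : i ∉ J) : w0 cs ∉ WJ cs J := fun h => by
  have h1 := F.len_w0_mul (cs.simple i)
  rw [cs.length_simple] at h1
  exact hi (F.descent_mem J _ h i (by omega))

/-- For a simple group the Weyl group is not the product of two proper parabolic subgroups. -/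
theorem not_cover [IsSimpleGroup K] (hth : Δ.Thick) (htr : ∀ x y : C, ∃ g : K, g • x = y) (x : C)
    {J J' : Set I} {i i' : I} (hi : i ∉ J) (hi' : i' ∉ J')
    (h : ∀ y, ∃ z ∈ Δ.Res J x, z ∈ Δ.Res J' y) : False := by
  let N : Subgroup K :=
    { carrier := {g | ∀ y, g • y ∈ Δ.Res J' y}
      one_mem' := fun y => by rw [one_smul]; exact Δ.self_mem_Res _ _
      mul_mem' := fun {a b} ha hb y => by
        rw [mul_smul]
        exact Δ.mem_Res_trans (hb y) (ha _)
      inv_mem' := fun {a} ha y => by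
        have := ha (a⁻¹ • y)
        rw [smul_inv_smul] at this
        exact Δ.mem_Res_symm this }
  have hN : N.Normal := ⟨fun a ha g y => by
    have h1 := S.smul_mem_Res (g := g) (ha (g⁻¹ • y))
    rw [smul_inv_smul] at h1
    rw [mul_smul, mul_smul]
    exact h1⟩
  obtain ⟨u, -, hu1, hu⟩ := exists_rad S hth x hi
  have huN : u ∈ N := fun y => by
    obtain ⟨z, hz, hz'⟩ := h y
    have h1 := S.smul_mem_Res (g := u) (Δ.mem_Res_symm hz')
    rw [hu z hz] at h1
    exact Δ.mem_Res_trans hz' h1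
  rcases hN.eq_bot_or_eq_top with h1 | h1
  · rw [h1] at huN
    exact hu1 huN
  · obtain ⟨y, hy⟩ := Δ.exists_δ x (cs.simple i')
    obtain ⟨g, hg⟩ := htr x y
    have h2 : g ∈ N := by rw [h1]; trivial
    have h3 := h2 x
    rw [hg, mem_Res, hy] at h3
    exact simple_notMem_WJ hi' h3

end Tits

end Cfsg.Agent.TH.Par
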