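import Mathlib
import Cfsg.Agent.TH.ParBldg

/-!
# S3541, parabolic case: the action on the residues of a given type

If every suborbit contains a short orbit of `U x`, the action is doubly transitive.
-/

set_option autoImplicit false
set_option linter.unusedSectionVars false

namespace Cfsg.Agent.TH.Par

open Cfsg.Agent.Tits.Core Cfsg.Agent.Tits.Core.Bldg Cfsg.Agent.Tits.Exchange Cfsg.Agent.Tits Cfsg.Agent.FixBN

variable {I : Type*} {M : CoxeterMatrix I} {W : Type*} [Group W] {cs : CoxeterSystem M W} {C : Type*}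

theorem arith_two {b c k : ℕ} (hb : 2 ≤ b) (hc : 2 ≤ c) (h : c ^ b * 2 ^ k ≤ b * c) : b = 2 ∧ c = 2 ∧ k = 0 := by
  obtain ⟨a, rfl⟩ : ∃ a, b = a + 1 := ⟨b - 1, by omega⟩
  rw [pow_succ, mul_right_comm] at h
  have h1 : c ^ a * 2 ^ k ≤ a + 1 := Nat.le_of_mul_le_mul_right h (by omega)
  have h2 : 2 ^ a ≤ c ^ a := Nat.pow_le_pow_left hc a
  have h3 : 1 ≤ 2 ^ k := Nat.one_le_two_pow
  have h4 : 2 ^ a ≤ a + 1 := by nlinarith
  have h5 : a = 1 := by
    by_contra h6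
    obtain ⟨e, rfl⟩ : ∃ e, a = e + 2 := ⟨a - 2, by omega⟩
    have h7 : e < 2 ^ e := Nat.lt_two_pow_self
    rw [pow_add] at h4
    omega
  subst h5
  rw [pow_one] at h1
  have h6 : c = 2 := by nlinarith
  subst h6
  refine ⟨rfl, rfl, ?_⟩
  by_contra h7
  have h8 : 2 ≤ 2 ^ k := by
    calc 2 = 2 ^ 1 := rfl
      _ ≤ 2 ^ k := Nat.pow_le_pow_right (by norm_num) (by omega)
  omega

section

variable {Δ : Bldg cs C} {K : Type*} [Group K] [MulAction K C] {p : ℕ} (S : Sys Δ K p) [F : OppRes.Cox cs]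
  {Ω : Type*} [MulAction K Ω]

include S

omit F in
theorem exists_pi (htr : ∀ x y : C, ∃ g : K, g • x = y) {J : Set I} {x : C} {α : Ω}
    (hα : ∀ g : K, g • α = α ↔ g • x ∈ Δ.Res J x) :
    ∃ π : C → Ω, (∀ (g : K) y, π (g • y) = g • π y) ∧ π x = α ∧ ∀ y z, π y = π z ↔ z ∈ Δ.Res J y := by
  choose g hg using htr x
  refine ⟨fun y => g y • α, fun a y => ?_, ?_, fun y z => ?_⟩
  · have h1 : ((g (a • y))⁻¹ * a * g y) • α = α := by
      rw [hα, mul_smul, mul_smul, hg, inv_smul_eq_iff.2 (hg (a • y)).symm]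
      exact Δ.self_mem_Res J x
    rw [mul_smul, mul_smul, inv_smul_eq_iff] at h1
    exact h1.symm
  · show g x • α = α
    rw [hα, hg]
    exact Δ.self_mem_Res J x
  · show g y • α = g z • α ↔ _
    rw [eq_comm, ← inv_smul_eq_iff, ← mul_smul, hα, mul_smul, hg, mem_Res, mem_Res, ← S.iso (g y), smul_inv_smul,
      hg]

theorem card_orbit {J : Set I} {x : C} {π : C → Ω} (h1 : ∀ (g : K) y, π (g • y) = g • π y)
    (h2 : ∀ y z, π y = π z ↔ z ∈ Δ.Res J y) {y : C} (hy : IsMinR cs J (Δ.δ x y)) :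
    Nat.card (MulAction.orbit (S.U x) (π y)) = qq Δ x (Δ.δ x y) := by
  symm
  refine Nat.card_congr (Equiv.ofBijective (fun z => ⟨π z.1, ?_⟩) ⟨?_, ?_⟩)
  · obtain ⟨u, hu, hu'⟩ := S.exists_move z.2.symm
    exact ⟨⟨u, hu⟩, by rw [← hu', h1]; rfl⟩
  · rintro ⟨z, hz⟩ ⟨z', hz'⟩ h
    have h3 : π z = π z' := congrArg Subtype.val h
    rw [h2] at h3
    have h4 : Δ.IsProj J z x z := Δ.isProj_of_isMinR (Δ.self_mem_Res J z) (by rw [hz]; exact hy)
    have h5 : Δ.IsProj J z x z' := Δ.isProj_of_isMinR h3 (by rw [hz']; exact hy)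
    exact Subtype.ext (h4.unique h5)
  · rintro ⟨_, ⟨u, rfl⟩⟩
    exact ⟨⟨(u : K) • y, S.δ_smul u.2⟩, Subtype.ext (h1 _ _)⟩

omit S in
theorem isMinR_simple {J : Set I} {i : I} (hi : i ∉ J) : IsMinR cs J (cs.simple i) := by
  rw [isMinR_iff]
  intro j hj
  rcases cs.length_mul_simple (cs.simple i) j with h | h
  · omega
  · exfalso
    rw [cs.length_simple] at h
    have h1 : cs.simple i * cs.simple j = 1 := cs.length_eq_zero_iff.1 (by omega)
    have h2 : cs.simple i = cs.simple j := by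
      rw [← cs.inv_simple j]
      exact eq_inv_of_mul_eq_one_left h1
    exact hi (F.inj h2 ▸ hj)

/-- **The key step.** -/
theorem two_trans [Finite I] [Finite C] [IsSimpleGroup K] (hth : Δ.Thick) (htr : ∀ x y : C, ∃ g : K, g • x = y)
    {J : Set I} {x : C} {α : Ω} (hΩ : ∀ β : Ω, ∃ g : K, g • α = β)
    (hα : ∀ g : K, g • α = α ↔ g • x ∈ Δ.Res J x) {D : ℕ}
    (ha : ∀ β, β ≠ α → ∃ t : K, t • α = α ∧ Nat.card (MulAction.orbit (S.U x) (t • β)) ≤ D)
    (hb : ∀ c : ℕ, {β | β ≠ α ∧ Nat.card (MulAction.orbit (S.U x) β) ≤ c}.Nonempty →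
      D ≤ {β | β ≠ α ∧ Nat.card (MulAction.orbit (S.U x) β) ≤ c}.ncard)
    {β γ : Ω} (hβ : β ≠ α) (hγ : γ ≠ α) : ∃ t : K, t • α = α ∧ t • β = γ := by
  classical
  obtain ⟨π, h1, hx, h2⟩ := exists_pi S htr hα
  have hsurj : ∀ β : Ω, ∃ y, π y = β ∧ IsMinR cs J (Δ.δ x y) := fun β => by
    obtain ⟨g, rfl⟩ := hΩ β
    refine ⟨Δ.proj J (g • x) x, ?_, Δ.isMinR_δ_proj J _ x⟩
    rw [← hx, ← h1, eq_comm, h2]
    exact Δ.proj_mem J _ x
  have hne : ∀ y, π y ≠ α ↔ Δ.δ x y ∉ WJ cs J := fun y => by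
    rw [← hx, ne_comm, Ne, h2, mem_Res]
  have hdc : ∀ (t : K) y y', t • α = α → π y' = t • π y →
      ∃ a ∈ WJ cs J, ∃ b ∈ WJ cs J, Δ.δ x y' = a * Δ.δ x y * b := fun t y y' ht hy => by
    rw [← h1, eq_comm, h2] at hy
    rw [hα] at ht
    obtain ⟨a, ha, ha'⟩ := Δ.exists_mul_of_mem_left (t • y) ht
    obtain ⟨b, hb, hb'⟩ := Δ.exists_mul_of_mem x hy
    exact ⟨a, ha, b, hb, by rw [hb', ha', S.iso]⟩
  have := Fintype.ofFinite I
  obtain ⟨B, hB⟩ : ∃ B : Finset I, ∀ i, i ∈ B ↔ i ∉ J := ⟨Finset.univ.filter (· ∉ J), fun i => by simp⟩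
  have hBne : B.Nonempty := by
    by_contra h
    obtain ⟨y, rfl, -⟩ := hsurj β
    rw [hne] at hβ
    apply hβ
    have h3 : J = Set.univ := Set.eq_univ_of_forall fun i => by
      by_contra hi
      exact h ⟨i, (hB i).2 hi⟩
    rw [h3, WJ_univ]
    trivial
  obtain ⟨i0, hi0, hmin⟩ := B.exists_min_image (fun i => qq Δ x (cs.simple i)) hBne
  obtain ⟨c, hc⟩ : ∃ c, c = qq Δ x (cs.simple i0) := ⟨_, rfl⟩
  rw [← hc] at hmin
  have hc2 : 2 ≤ c := hc ▸ two_le_qq hth x i0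
  -- the short orbits
  have hA : ∀ β, β ≠ α → Nat.card (MulAction.orbit (S.U x) β) ≤ c →
      ∃ i ∈ B, qq Δ x (cs.simple i) ≤ c ∧ ∃ y, Δ.δ x y = cs.simple i ∧ π y = β := fun β hβ hle => by
    obtain ⟨y, rfl, hy⟩ := hsurj β
    rw [card_orbit S h1 h2 hy] at hle
    rw [hne] at hβ
    obtain ⟨ω, hω, he⟩ := cs.exists_isReduced (Δ.δ x y)
    obtain ⟨j, hj, hjJ⟩ : ∃ j ∈ ω, j ∉ J := by
      by_contra h
      push Not at h
      exact hβ (he ▸ wordProd_mem_WJ cs h)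
    obtain ⟨k, hk, hk'⟩ := word_bound S htr hth x hω c {j} (by simpa using hj)
      (by simpa using hmin j ((hB j).2 hjJ))
    rw [Finset.card_singleton] at hk hk'
    rw [pow_one, ← he] at hk'
    have h3 : k = 0 := by
      by_contra h4
      have h5 : 2 ≤ 2 ^ k := by
        calc 2 = 2 ^ 1 := rfl
          _ ≤ 2 ^ k := Nat.pow_le_pow_right (by norm_num) (by omega)
      nlinarith
    obtain ⟨i, rfl⟩ := List.length_eq_one_iff.1 (show ω.length = 1 by omega)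
    rw [List.mem_singleton] at hj
    subst hj
    rw [cs.wordProd_singleton] at he
    exact ⟨j, (hB j).2 hjJ, he ▸ hle, y, he, rfl⟩
  have hD : D ≤ B.card * c := by
    obtain ⟨y0, hy0⟩ := Δ.exists_δ x (cs.simple i0)
    refine (hb c ⟨π y0, ?_, ?_⟩).trans ?_
    · rw [hne, hy0]
      exact simple_notMem_WJ ((hB i0).1 hi0)
    · rw [card_orbit S h1 h2 (by rw [hy0]; exact isMinR_simple ((hB i0).1 hi0)), hy0, hc]
    · have := Fintype.ofFinite C
      have h3 : {β | β ≠ α ∧ Nat.card (MulAction.orbit (S.U x) β) ≤ c} ⊆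
          ((B.filter fun i => qq Δ x (cs.simple i) ≤ c).biUnion fun i =>
            (Finset.univ.filter fun y => Δ.δ x y = cs.simple i).image π : Finset Ω) := by
        rintro β ⟨hβ, hle⟩
        obtain ⟨i, hi, hi', y, hy, rfl⟩ := hA β hβ hle
        simp only [Finset.coe_biUnion, Set.mem_iUnion, Finset.mem_coe, Finset.mem_filter, Finset.mem_image]
        exact ⟨i, ⟨hi, hi'⟩, y, ⟨Finset.mem_univ _, hy⟩, rfl⟩
      refine (Set.ncard_le_ncard h3 (Finset.finite_toSet _)).trans ?_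
      rw [Set.ncard_coe_finset]
      refine (Finset.card_biUnion_le_card_mul _ _ c fun i hi => ?_).trans
        (Nat.mul_le_mul_right _ (Finset.card_filter_le _ _))
      refine Finset.card_image_le.trans (le_trans (le_of_eq ?_) (Finset.mem_filter.1 hi).2)
      rw [qq, Nat.card_eq_fintype_card, Fintype.card_subtype]
  have hfix : ∀ (t : K) β, t • α = α → β ≠ α → t • β ≠ α := fun t β ht hβ h => by
    rw [← ht] at h
    exact hβ (smul_left_cancel _ h)
  rcases Nat.lt_or_ge B.card 2 with hlt | hge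
  · -- corank one
    have h3 : B.card = 1 := by
      have := hBne.card_pos
      omega
    rw [h3, one_mul] at hD
    obtain ⟨t, ht, ht'⟩ := ha β hβ
    obtain ⟨r, hr, hr'⟩ := ha γ hγ
    obtain ⟨i, hi, -, y, hy, hy'⟩ := hA _ (hfix t β ht hβ) (ht'.trans hD)
    obtain ⟨j, hj, -, z, hz, hz'⟩ := hA _ (hfix r γ hr hγ) (hr'.trans hD)
    have hij : i = j := Finset.card_le_one.1 h3.le i hi j hj
    subst hij
    obtain ⟨u, hu, hu'⟩ := S.exists_move (hy.trans hz.symm)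
    have huα : u • α = α := by
      rw [← hx, ← h1, S.fix x u hu]
    refine ⟨r⁻¹ * u * t, ?_, ?_⟩
    · rw [mul_smul, mul_smul, ht, huα, inv_smul_eq_iff, hr]
    · rw [mul_smul, mul_smul, ← hy', ← h1, hu', hz', inv_smul_smul]
  · exfalso
    obtain ⟨y0, hy0⟩ := Δ.exists_δ x (w0 cs)
    obtain ⟨t, ht, ht'⟩ := ha (π y0) (by rw [hne, hy0]; exact w0_notMem_WJ ((hB i0).1 hi0))
    obtain ⟨y, hy, hy'⟩ := hsurj (t • π y0)
    obtain ⟨a, haJ, b, hbJ, hab⟩ := hdc t y0 y ht hy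
    rw [← hy, card_orbit S h1 h2 hy'] at ht'
    rw [hy0] at hab
    obtain ⟨ω, hω, he⟩ := cs.exists_isReduced (Δ.δ x y)
    have hsub : ∀ i ∈ B, J ⊆ {i}ᶜ := fun i hi j hj h => (hB i).1 hi (by rwa [← Set.mem_singleton_iff.1 h])
    have hBω : ∀ i ∈ B, i ∈ ω := fun i hi => by
      by_contra h
      have h3 : Δ.δ x y ∈ WJ cs {i}ᶜ := he ▸ wordProd_mem_WJ cs fun j hj h4 =>
        h (by rwa [← Set.mem_singleton_iff.1 h4])
      have h4 : w0 cs = a⁻¹ * Δ.δ x y * b⁻¹ := by rw [hab]; group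
      refine w0_notMem_WJ (cs := cs) (J := {i}ᶜ) (i := i) (by simp) ?_
      rw [h4]
      exact mul_mem (mul_mem (inv_mem (WJ_mono cs (hsub i hi) haJ)) h3) (inv_mem (WJ_mono cs (hsub i hi) hbJ))
    obtain ⟨k, hk, hk'⟩ := word_bound S htr hth x hω c B hBω hmin
    rw [← he] at hk'
    obtain ⟨hb2, hc', hk0⟩ := arith_two hge hc2 (hk'.trans (ht'.trans hD))
    rw [hb2, hc'] at hD
    obtain ⟨i, j, rfl⟩ := List.length_eq_two.1 (show ω.length = 2 by omega)
    have hiB : i ∈ B ∧ j ∈ B ∧ i ≠ j := by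
      have h3 : B ⊆ {i, j} := fun k hk => by simpa using hBω k hk
      have h4 : B = {i, j} := Finset.eq_of_subset_of_card_le h3 (by rw [hb2]; exact Finset.card_le_two)
      refine ⟨by rw [h4]; simp, by rw [h4]; simp, ?_⟩
      rintro rfl
      rw [h4] at hb2
      simp at hb2
    obtain ⟨hiB, hjB, hij⟩ := hiB
    have he' : a * w0 cs * b = cs.simple i * cs.simple j := by
      rw [← hab, he, cs.wordProd_cons, cs.wordProd_singleton]
    have hL : ∀ v ∈ WJ cs J, v ∈ WJ cs {j}ᶜ := fun v hv => WJ_mono cs (hsub j hjB) hv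
    have hR : ∀ v ∈ WJ cs J, v ∈ WJ cs {i}ᶜ := fun v hv => WJ_mono cs (hsub i hiB) hv
    have hsL : ∀ k, k ≠ j → cs.simple k ∈ WJ cs {j}ᶜ := fun k hk => simple_mem_WJ cs hk
    have hsR : ∀ k, k ≠ i → cs.simple k ∈ WJ cs {i}ᶜ := fun k hk => simple_mem_WJ cs hk
    have hshort : ∀ w : W, cs.length w ≤ 2 → ∃ u ∈ WJ cs {j}ᶜ, ∃ v ∈ WJ cs {i}ᶜ, w = u * v := fun w hw => by
      obtain ⟨τ, hτ, rfl⟩ := cs.exists_isReduced w
      rw [hτ.eq] at hw
      match τ, hw with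
      | [], _ => exact ⟨1, one_mem _, 1, one_mem _, by simp⟩
      | [k], _ =>
        rw [cs.wordProd_singleton]
        by_cases hkj : k = j
        · exact ⟨1, one_mem _, _, hsR k (hkj ▸ hij.symm), (one_mul _).symm⟩
        · exact ⟨_, hsL k hkj, 1, one_mem _, (mul_one _).symm⟩
      | [k, l], _ =>
        rw [cs.wordProd_cons, cs.wordProd_singleton]
        by_cases hkj : k = j
        · by_cases hli : l = i
          · refine ⟨b⁻¹ * a⁻¹ * cs.simple i, mul_mem (mul_mem (hL _ (inv_mem hbJ)) (hL _ (inv_mem haJ))) (hsL i hij),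
              cs.simple j * b⁻¹ * a⁻¹, mul_mem (mul_mem (hsR j hij.symm) (hR _ (inv_mem hbJ))) (hR _ (inv_mem haJ)), ?_⟩
            have h3 : cs.simple j * cs.simple i = (a * w0 cs * b)⁻¹ := by
              rw [he', mul_inv_rev, cs.inv_simple, cs.inv_simple]
            have h4 : b⁻¹ * a⁻¹ * cs.simple i * (cs.simple j * b⁻¹ * a⁻¹) =
                b⁻¹ * a⁻¹ * (cs.simple i * cs.simple j) * b⁻¹ * a⁻¹ := by group
            rw [hkj, hli, h4, ← he', h3, mul_inv_rev, mul_inv_rev, F.w0_inv]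
            group
          · exact ⟨1, one_mem _, _, mul_mem (hsR k (hkj ▸ hij.symm)) (hsR l hli), (one_mul _).symm⟩
        · by_cases hli : l = i
          · exact ⟨_, mul_mem (hsL k hkj) (hsL l (hli ▸ hij)), 1, one_mem _, (mul_one _).symm⟩
          · exact ⟨_, hsL k hkj, _, hsR l hli, rfl⟩
    refine not_cover S hth htr x (J := {j}ᶜ) (J' := {i}ᶜ) (i := j) (i' := i) (by simp) (by simp) fun z => ?_
    by_cases hz : π z = α
    · refine ⟨z, ?_, Δ.self_mem_Res _ _⟩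
      have h3 := (hne z).not.1 (not_not.2 hz)
      exact hL _ (not_not.1 h3)
    obtain ⟨r, hr, hr'⟩ := ha (π z) hz
    obtain ⟨z', hz1, hz2⟩ := hsurj (r • π z)
    obtain ⟨a', ha', b', hb', hab'⟩ := hdc r z z' hr hz1
    rw [← hz1, card_orbit S h1 h2 hz2] at hr'
    obtain ⟨τ, hτ, he2⟩ := cs.exists_isReduced (Δ.δ x z')
    obtain ⟨k', hk1, hk2⟩ := word_bound S htr hth x hτ 0 ∅ (by simp) (by simp)
    rw [Finset.card_empty, add_zero] at hk1
    rw [Finset.card_empty, pow_zero, one_mul, ← he2] at hk2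
    have h3 : k' ≤ 2 := by
      by_contra h4
      have h5 : 2 ^ 3 ≤ 2 ^ k' := Nat.pow_le_pow_right (by norm_num) (by omega)
      omega
    obtain ⟨u, hu, v, hv, huv⟩ := hshort (Δ.δ x z') (by rw [he2, hτ.eq]; omega)
    obtain ⟨e, he3, he4⟩ := Δ.exists_δ_mul_mem_Res x (Δ.self_mem_Res {i}ᶜ z) (mul_mem (hR _ hb') (inv_mem hv))
    refine ⟨e, ?_, he3⟩
    have h4 : Δ.δ x z * (b' * v⁻¹) = a'⁻¹ * u := by
      rw [eq_inv_mul_iff_mul_eq, ← mul_assoc, ← mul_assoc, ← hab', huv, mul_inv_cancel_right]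
    rw [mem_Res, he4, h4]
    exact mul_mem (inv_mem (hL _ ha')) hu

end

end Cfsg.Agent.TH.Par
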