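import Mathlib
import Cfsg.Agent.TH.Defs
import Cfsg.Agent.TH.ParTwo
import Cfsg.Agent.FixBN.OfBN
import Cfsg.Agent.S0320
import Cfsg.Agent.H498.LieFree

/-!
# S3541, parabolic case

If the socle has a split (B,N)-pair of characteristic `p`, then `p` divides the degree.
-/

set_option autoImplicit false
set_option linter.unusedSectionVars false

namespace Cfsg.Agent.TH.Par

open Cfsg.Agent.Tits.Core Cfsg.Agent.Tits.Core.Bldg Cfsg.Agent.Tits.Exchange Cfsg.Agent.Tits Cfsg.Agent.FixBN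

section Orbits

variable {G : Type*} [Group G] {Ω : Type*} [MulAction G Ω]

theorem card_orbit_le [Finite Ω] {A B : Subgroup G} (g : G) (h : ∀ u ∈ A, g * u * g⁻¹ ∈ B) (β : Ω) :
    Nat.card (MulAction.orbit A β) ≤ Nat.card (MulAction.orbit B (g • β)) := by
  refine Nat.card_le_card_of_injective (fun γ => ⟨g • γ.1, ?_⟩) ?_
  · obtain ⟨_, ⟨u, rfl⟩⟩ := γ
    refine ⟨⟨_, h u u.2⟩, ?_⟩
    show (g * u * g⁻¹) • g • β = g • (u : G) • β
    rw [mul_smul, inv_smul_smul, mul_smul]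
  · intro a b hab
    exact Subtype.ext (smul_left_cancel g (congrArg Subtype.val hab))

theorem orbit_map_subtype (T : Subgroup G) (A : Subgroup T) (β : Ω) :
    MulAction.orbit (A.map T.subtype) β = MulAction.orbit A β := by
  ext γ
  constructor
  · rintro ⟨⟨_, u, hu, rfl⟩, rfl⟩
    exact ⟨⟨u, hu⟩, rfl⟩
  · rintro ⟨u, rfl⟩
    exact ⟨⟨_, u, u.2, rfl⟩, rfl⟩

/-- A Sylow subgroup has a shortest possible orbit in every orbit of the group. -/
theorem exists_short [Finite G] {p : ℕ} [hp : Fact p.Prime] (P : Sylow p G) {β γ : Ω}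
    (h : Nat.card (MulAction.stabilizer G β) = Nat.card (MulAction.stabilizer G γ)) :
    ∃ g : G, Nat.card (MulAction.orbit (P : Subgroup G) (g • β)) ≤ Nat.card (MulAction.orbit (P : Subgroup G) γ) := by
  obtain ⟨R⟩ : Nonempty (Sylow p (MulAction.stabilizer G β)) := inferInstance
  obtain ⟨Q, hQ⟩ := (R.isPGroup'.map (MulAction.stabilizer G β).subtype).exists_le_sylow
  obtain ⟨g, hg⟩ := MulAction.exists_smul_eq G Q P
  refine ⟨g, ?_⟩
  have h1 : Nat.card (R : Subgroup (MulAction.stabilizer G β)) ≤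
      Nat.card (MulAction.stabilizer (P : Subgroup G) (g • β)) := by
    refine Nat.card_le_card_of_injective (fun r => ⟨⟨g * (r.1 : G) * g⁻¹, ?_⟩, ?_⟩) ?_
    · rw [← hg, Sylow.coe_subgroup_smul]
      exact ⟨r.1, hQ ⟨r.1, r.2, rfl⟩, rfl⟩
    · show (g * (r.1 : G) * g⁻¹) • g • β = g • β
      have h2 : (r.1 : G) • β = β := r.1.2
      rw [mul_smul, inv_smul_smul, mul_smul, h2]
    · intro a b hab
      have h2 : g * (a.1 : G) * g⁻¹ = g * (b.1 : G) * g⁻¹ := congrArg (fun z => (z.1 : G)) hab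
      exact Subtype.ext (Subtype.ext (mul_left_cancel (mul_right_cancel h2)))
  have h2 : Nat.card (MulAction.stabilizer (P : Subgroup G) γ) ≤
      Nat.card (R : Subgroup (MulAction.stabilizer G β)) := by
    obtain ⟨k, hk⟩ := IsPGroup.iff_card.1 (P.isPGroup'.to_subgroup (MulAction.stabilizer (P : Subgroup G) γ))
    let f : MulAction.stabilizer (P : Subgroup G) γ →* MulAction.stabilizer G γ :=
      { toFun := fun a => ⟨a.1.1, a.2⟩
        map_one' := rfl
        map_mul' := fun _ _ => rfl }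
    have h3 := Subgroup.card_dvd_of_injective f fun a b hab =>
      Subtype.ext (Subtype.ext (congrArg (fun z : MulAction.stabilizer G γ => (z : G)) hab))
    rw [hk, ← h, hp.1.pow_dvd_iff_le_factorization Nat.card_pos.ne'] at h3
    rw [hk, R.card_eq_multiplicity]
    exact Nat.pow_le_pow_right hp.1.pos h3
  have h3 : ∀ δ : Ω, Nat.card (MulAction.orbit (P : Subgroup G) δ) *
      Nat.card (MulAction.stabilizer (P : Subgroup G) δ) = Nat.card (P : Subgroup G) := fun δ => by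
    rw [← Nat.card_prod]
    exact Nat.card_congr (MulAction.orbitProdStabilizerEquivGroup _ δ)
  have h4 := (h3 (g • β)).trans (h3 γ).symm
  have h5 : 0 < Nat.card (MulAction.stabilizer (P : Subgroup G) γ) := Nat.card_pos
  refine Nat.le_of_mul_le_mul_right ?_ h5
  rw [← h4]
  exact Nat.mul_le_mul_left _ (h2.trans h1)

end Orbits

variable {I : Type*} {M : CoxeterMatrix I} {W : Type*} [Group W] {cs : CoxeterSystem M W} {C : Type*}

section Sys

variable {Δ : Bldg cs C} {K : Type*} [Group K] [MulAction K C] {p : ℕ} (S : Sys Δ K p) [F : OppRes.Cox cs]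

include S

theorem eq_of_fix (hth : Δ.Thick) {x z : C} (h : ∀ u ∈ S.U x, u • z = z) : z = x := by
  by_contra hne
  have h0 : Δ.δ x z ≠ 1 := fun h1 => hne (Δ.eq_of_δ_eq_one h1).symm
  obtain ⟨i, hi⟩ := cs.exists_rightDescent_of_ne_one h0
  rw [cs.isRightDescent_iff] at hi
  have hl : cs.length (Δ.δ x z * cs.simple i * cs.simple i) =
      cs.length (Δ.δ x z * cs.simple i) + cs.length (cs.simple i) := by
    rw [cs.simple_mul_simple_cancel_right, cs.length_simple, hi]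
  obtain ⟨y, hy, hy'⟩ := Δ.exists_between (cs.simple_mul_simple_cancel_right (w := Δ.δ x z) i).symm hl
  obtain ⟨z', hz1, hz2, hz3⟩ := hth.exists_third (i := i) (x := y) y z
  have h1 := Δ.δ_mul_of hy (Δ.δ_eq_of_mem_Pan (Δ.self_mem_Pan i y) hz1 hz2.symm) hl
  rw [cs.simple_mul_simple_cancel_right] at h1
  obtain ⟨u, hu, hu'⟩ := S.exists_move h1.symm
  exact hz3 (hu'.symm.trans (h u hu))

theorem le_U_of_le (hth : Δ.Thick) {x : C} {V : Subgroup K} (hV : IsPGroup p V) (h : S.U x ≤ V) : V ≤ S.U x := by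
  obtain ⟨z, hz⟩ := S.exists_fix V hV
  have h1 := eq_of_fix S hth (x := x) (z := z) fun u hu => hz u (h hu)
  subst h1
  exact S.max z V hV hz

theorem exists_le_U [hp : Fact p.Prime] [Finite C] (hth : Δ.Thick) {X : Subgroup K} {x : C} {J : Set I}
    (hJ : ∀ y, y ∈ Δ.Res J x ↔ ∃ t ∈ X, t • x = y) {V : Subgroup K} (hV : IsPGroup p V) (h : V ≤ X) :
    ∃ t ∈ X, V ≤ S.U (t • x) := by
  have h1 : MulAction.orbit X x = Δ.Res J x := by
    ext y
    rw [hJ]
    constructor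
    · rintro ⟨t, rfl⟩
      exact ⟨t, t.2, rfl⟩
    · rintro ⟨t, ht, rfl⟩
      exact ⟨⟨t, ht⟩, rfl⟩
  have h2 : ¬ p ∣ Nat.card (MulAction.orbit X x) := by
    rw [h1, ← ZMod.natCast_eq_zero_iff, S.card_Res hth]
    exact one_ne_zero
  have h3 : IsPGroup p (V.subgroupOf X) := hV.comap_subtype
  obtain ⟨⟨_, ⟨t, rfl⟩⟩, hy⟩ := h3.nonempty_fixed_point_of_prime_not_dvd_card (MulAction.orbit X x) h2
  refine ⟨t, t.2, S.max _ V hV fun v hv => ?_⟩
  exact congrArg Subtype.val (hy ⟨⟨v, h hv⟩, hv⟩)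

end Sys

section Main

variable {G : Type*} [Group G] [Finite G] {T H : Subgroup G} {m : ℕ}

theorem not_le (hT : AS T) (hH : Half H m) : ¬ T ≤ H := fun h => by
  have := hT.normal
  have := hT.simple
  rw [← Subgroup.normal_le_normalCore, hH.core, le_bot_iff] at h
  obtain ⟨a, ha⟩ := exists_ne (1 : T)
  apply ha
  have h1 : (a : G) ∈ (⊥ : Subgroup G) := h ▸ a.2
  exact Subtype.ext h1

theorem exists_mul (hT : AS T) (hH : Half H m) (g : G) : ∃ t ∈ T, ∃ h ∈ H, g = t * h := by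
  have := hT.normal
  have h1 : T ⊔ H = ⊤ := hH.max.2 _ (lt_of_le_of_ne le_sup_right fun h => not_le hT hH (h ▸ le_sup_left))
  have h2 : g ∈ ((T ⊔ H : Subgroup G) : Set G) := by rw [h1]; trivial
  rw [Subgroup.normal_mul] at h2
  obtain ⟨t, ht, h, hh, rfl⟩ := h2
  exact ⟨t, ht, h, hh, rfl⟩

theorem card_stab (hH : Half H m) {β : G ⧸ H} (hβ : β ≠ ((1 : G) : G ⧸ H)) :
    Nat.card (MulAction.stabilizer H β) = m := by
  induction β using QuotientGroup.induction_on with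
  | _ g =>
  have hg : g ∉ H := fun h => hβ (by rw [QuotientGroup.eq]; simpa using h)
  rw [← hH.card_inf g hg]
  have h1 : ∀ a : G, a • (g : G ⧸ H) = g ↔ a ∈ cj g H := fun a => by
    rw [mem_cj, MulAction.Quotient.smul_mk, eq_comm, QuotientGroup.eq, smul_eq_mul, mul_assoc]
  exact Nat.card_congr
    { toFun := fun a => ⟨a.1.1, a.1.2, (h1 _).1 a.2⟩
      invFun := fun a => ⟨⟨a.1, a.2.1⟩, (h1 _).2 a.2.2⟩
      left_inv := fun _ => rfl
      right_inv := fun _ => rfl }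

theorem dvd_of_sys (hT : AS T) (hH : Half H m) {p : ℕ} [hp : Fact p.Prime] {Δ : Bldg cs C} [MulAction T C]
    (S : Sys Δ T p) [OppRes.Cox cs] [Finite I] [Finite C] (hth : Δ.Thick) (htr : ∀ x y : C, ∃ g : T, g • x = y)
    (i0 : I) (x0 : C) : p ∣ H.index := by
  classical
  have := hT.normal
  have := hT.simple
  by_contra hdvd
  obtain ⟨α, hαdef⟩ : ∃ α : G ⧸ H, α = ((1 : G) : G ⧸ H) := ⟨_, rfl⟩
  have hst : ∀ g : G, g • α = α ↔ g ∈ H := fun g => by
    rw [hαdef, MulAction.Quotient.smul_mk, eq_comm, QuotientGroup.eq]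
    simp
  have hΩ : ∀ β : G ⧸ H, ∃ t : T, t • α = β := fun β => by
    induction β using QuotientGroup.induction_on with
    | _ g =>
    obtain ⟨t, ht, h, hh, rfl⟩ := exists_mul hT hH g
    refine ⟨⟨t, ht⟩, ?_⟩
    show t • α = _
    rw [hαdef, MulAction.Quotient.smul_mk, QuotientGroup.eq]
    simpa using hh
  -- a chamber whose group fixes `α`
  obtain ⟨x, hx⟩ : ∃ x : C, S.U x ≤ H.subgroupOf T := by
    obtain ⟨β, hβ⟩ := (S.isP x0).nonempty_fixed_point_of_prime_not_dvd_card (G ⧸ H) hdvd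
    obtain ⟨t, rfl⟩ := hΩ β
    refine ⟨t⁻¹ • x0, fun u hu => ?_⟩
    have h1 := S.conj_mem_U hu t
    rw [smul_inv_smul] at h1
    have h2 : (t * u * t⁻¹) • t • α = t • α := hβ ⟨_, h1⟩
    rw [mul_smul, inv_smul_smul, mul_smul] at h2
    exact (hst u).1 (smul_left_cancel _ h2)
  obtain ⟨J, hJ⟩ := orbit_eq_Res S hth hx
  -- the stabiliser of the residue
  have hα : ∀ g : T, g • α = α ↔ g • x ∈ Δ.Res J x := by
    let E : Set G := {e | e ∈ H ∧ e ∈ T ∧ ∃ n : ℕ, e ^ p ^ n = 1}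
    let N : Subgroup G :=
      { carrier := {g | ∀ e, e ∈ E ↔ g * e * g⁻¹ ∈ E}
        one_mem' := fun e => by rw [one_mul, inv_one, mul_one]
        mul_mem' := fun {a b} ha hb e => by
          rw [hb e, ha, mul_inv_rev]
          simp only [mul_assoc]
        inv_mem' := fun {a} ha e => by
          rw [ha (a⁻¹ * e * a⁻¹⁻¹)]
          simp [mul_assoc] }
    have hN : ∀ g : G, (∀ e ∈ E, g * e * g⁻¹ ∈ E) → (∀ e ∈ E, g⁻¹ * e * g⁻¹⁻¹ ∈ E) → g ∈ N := fun g h1 h2 e =>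
      ⟨h1 e, fun h => by simpa [mul_assoc] using h2 _ h⟩
    have hHE : ∀ g ∈ H, ∀ e ∈ E, g * e * g⁻¹ ∈ E := by
      rintro g hg e ⟨h1, h2, n, h3⟩
      refine ⟨mul_mem (mul_mem hg h1) (inv_mem hg), hT.normal.conj_mem e h2 g, n, ?_⟩
      rw [conj_pow, h3, mul_one, mul_inv_cancel]
    have hUE : ∀ y ∈ Δ.Res J x, ∀ u ∈ S.U y, (u : G) ∈ E := fun y hy u hu => by
      obtain ⟨t, ht, rfl⟩ := (hJ y).1 hy
      obtain ⟨n, hn⟩ := S.isP _ ⟨u, hu⟩
      exact ⟨U_le_of_mem S hx ht hu, u.2, n, congrArg (fun z : S.U (t • x) => ((z : T) : G)) hn⟩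
    have hSE : ∀ g : T, g • x ∈ Δ.Res J x → ∀ e ∈ E, (g : G) * e * (g : G)⁻¹ ∈ E := by
      rintro g hg e ⟨h1, h2, n, h3⟩
      have h4 : IsPGroup p (Subgroup.zpowers (⟨e, h2⟩ : T)) := by
        rintro ⟨_, k, rfl⟩
        refine ⟨n, Subtype.ext (Subtype.ext ?_)⟩
        show (e ^ k) ^ p ^ n = 1
        rw [← zpow_natCast, ← zpow_mul, mul_comm, zpow_mul, zpow_natCast, h3, one_zpow]
      obtain ⟨t, ht, ht'⟩ := exists_le_U S hth hJ h4 ((Subgroup.zpowers_le).2 h1)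
      have h5 := S.conj_mem_U (ht' (Subgroup.mem_zpowers _)) g
      refine hUE _ ?_ _ h5
      exact Δ.mem_Res_trans hg (S.smul_mem_Res ((hJ _).2 ⟨t, ht, rfl⟩))
    have hNH : N = H := by
      by_contra hne
      have h1 : N = ⊤ := hH.max.2 N (lt_of_le_of_ne
        (fun g hg => hN g (hHE g hg) (hHE g⁻¹ (inv_mem hg))) (Ne.symm hne))
      obtain ⟨u, hu, hu1, -⟩ := exists_rad S hth x (J := ∅) (i := i0) (by simp)
      have h2 : (u : G) ∈ H.normalCore := fun g => by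
        have h3 : g ∈ N := by rw [h1]; trivial
        exact ((h3 u).1 (hUE x (Δ.self_mem_Res J x) u hu)).1
      rw [hH.core] at h2
      exact hu1 (Subtype.ext h2)
    intro g
    refine ⟨fun h => (hJ _).2 ⟨g, (hst g).1 h, rfl⟩, fun h => (hst g).2 ?_⟩
    rw [← hNH]
    refine hN g (hSE g h) (hSE g⁻¹ ?_)
    have h1 := S.smul_mem_Res (g := g⁻¹) h
    rw [inv_smul_smul] at h1
    exact Δ.mem_Res_symm h1
  -- the Sylow subgroup of `H`
  obtain ⟨U, hU⟩ : ∃ U : Subgroup G, U = (S.U x).map T.subtype := ⟨_, rfl⟩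
  have hUP : IsPGroup p U := hU ▸ (S.isP x).map _
  have hUT : U ≤ T := hU ▸ Subgroup.map_subtype_le _
  have hUH : U ≤ H := by
    rw [hU]
    rintro _ ⟨u, hu, rfl⟩
    exact hx hu
  have hUm : ∀ u : T, (u : G) ∈ U ↔ u ∈ S.U x := fun u => by
    rw [hU]
    exact ⟨fun ⟨v, hv, h⟩ => Subtype.ext h ▸ hv, fun h => ⟨u, h, rfl⟩⟩
  have hUmax : ∀ A : Subgroup G, IsPGroup p A → U ≤ A → ∀ a ∈ A, a ∈ T → a ∈ U := fun A hA hle a ha haT =>
    (hUm ⟨a, haT⟩).2 (le_U_of_le S hth (V := A.subgroupOf T) hA.comap_subtype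
      (fun u hu => hle ((hUm u).2 hu)) ha)
  have hUo : ∀ β : G ⧸ H, MulAction.orbit (S.U x) β = MulAction.orbit U β := fun β => by
    rw [hU]
    exact (orbit_map_subtype T _ β).symm
  obtain ⟨V, hV⟩ := (hUP.comap_subtype (K := H)).exists_le_sylow
  obtain ⟨V', hV'⟩ : ∃ V' : Subgroup G, V' = (V : Subgroup H).map H.subtype := ⟨_, rfl⟩
  have hUV : U ≤ V' := fun u hu => hV' ▸ ⟨⟨u, hUH hu⟩, hV hu, rfl⟩
  have hVP : IsPGroup p V' := hV' ▸ V.isPGroup'.map _
  have hVH : V' ≤ H := hV' ▸ Subgroup.map_subtype_le _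
  have hVo : ∀ β : G ⧸ H, MulAction.orbit (V : Subgroup H) β = MulAction.orbit V' β := fun β => by
    rw [hV']
    exact (orbit_map_subtype H _ β).symm
  obtain ⟨g1, g2, hg1, hg2, hg⟩ := hH.not_two
  have hne : ∀ g : G, g ∉ H → (g : G ⧸ H) ≠ α := fun g hg h => by
    rw [hαdef, eq_comm, QuotientGroup.eq] at h
    exact hg (by simpa using h)
  obtain ⟨γ0, hγ0, hmin⟩ := Set.exists_min_image {γ : G ⧸ H | γ ≠ α}
    (fun γ => Nat.card (MulAction.orbit V' γ)) (Set.toFinite _) ⟨_, hne g1 hg1⟩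
  have key : (∃ t : T, t • α = α ∧ t • (g1 : G ⧸ H) = g2) → False := by
    rintro ⟨t, ht, ht'⟩
    have h1 : (t : G) • (g1 : G ⧸ H) = g2 := ht'
    rw [MulAction.Quotient.smul_mk, QuotientGroup.eq, smul_eq_mul] at h1
    exact hg t ((hst t).1 ht) _ h1 (by group)
  refine key (two_trans S hth htr hΩ hα (D := Nat.card (MulAction.orbit V' γ0)) ?_ ?_ (hne g1 hg1) (hne g2 hg2))
  · intro β hβ
    obtain ⟨h, hh⟩ := exists_short V (β := β) (γ := γ0)
      ((card_stab hH (hαdef ▸ hβ)).trans (card_stab hH (hαdef ▸ hγ0)).symm)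
    rw [hVo, hVo] at hh
    have h1 : IsPGroup p ((cj (h : G)⁻¹ U).subgroupOf T) := (hUP.map _).comap_subtype
    obtain ⟨t, ht, ht'⟩ := exists_le_U S hth hJ h1 (fun u hu => by
      have h2 := hUH (mem_cj.1 hu)
      have h3 := mul_mem (mul_mem (inv_mem h.2) h2) h.2
      rw [Subgroup.mem_subgroupOf]
      simpa [mul_assoc] using h3)
    have h2 : U ≤ cj ((h : G) * t) U := fun u hu => by
      have h3 : (h : G)⁻¹ * u * h ∈ T := by simpa using hT.normal.conj_mem u (hUT hu) (h : G)⁻¹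
      have h4 : (⟨_, h3⟩ : T) ∈ S.U (t • x) := ht' (mem_cj.2 (by simpa [mul_assoc] using hu))
      have h5 := S.conj_mem_U h4 t⁻¹
      rw [inv_smul_smul, ← hUm] at h5
      rw [mem_cj]
      simpa [mul_assoc] using h5
    have h3 : ∀ u ∈ U, (h : G) * t * u * ((h : G) * t)⁻¹ ∈ V' := fun u hu =>
      hUV (hUmax _ (hUP.map _) h2 _ ⟨u, hu, rfl⟩ (hT.normal.conj_mem u (hUT hu) _))
    refine ⟨t⁻¹, (hst _).2 (inv_mem ht), ?_⟩
    rw [hUo]
    refine (card_orbit_le _ h3 _).trans (le_trans (le_of_eq ?_) hh)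
    have h4 : ((h : G) * t) • (t⁻¹ • β) = h • β := by
      show ((h : G) * t) • ((t : G)⁻¹ • β) = (h : G) • β
      rw [mul_smul, smul_inv_smul]
    rw [h4]
    rfl
  · rintro c ⟨γ, hγ, hγ'⟩
    refine (hmin γ hγ).trans ?_
    rw [Nat.card_coe_set_eq]
    refine Set.ncard_le_ncard ?_ (Set.toFinite _)
    rintro _ ⟨v, rfl⟩
    refine ⟨fun h => hγ ?_, le_trans ?_ hγ'⟩
    · have h1 : (v : G) • γ = α := h
      rw [← (hst v).2 (hVH v.2)] at h1
      exact smul_left_cancel _ h1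
    · rw [hUo, hUo]
      have h1 := card_orbit_le (A := U) (B := U) (v : G)⁻¹ (fun u hu => hUmax V' hVP hUV _
        (mul_mem (mul_mem (inv_mem v.2) (hUV hu)) (inv_mem (inv_mem v.2))) (hT.normal.conj_mem u (hUT hu) _))
        ((v : G) • γ)
      rwa [inv_smul_smul] at h1

/-- the parabolic case for an abstract split (B,N)-pair -/
theorem dvd_of_hasSplit (hT : AS T) (hH : Half H m) {p : ℕ} (hp : p.Prime) (h : HasSplit p T) : p ∣ H.index := by
  have : Fact p.Prime := ⟨hp⟩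
  obtain ⟨P, U, ⟨s, hs⟩, h⟩ := h
  have hN : ((P.B ⊓ P.N).subgroupOf P.N).Normal := Tits.OfBN.normal_subgroupOf P
  obtain ⟨M, cs, hcs⟩ := S0320.result P
  have hI : Finite P.S := FixBN.OfBN.finite_I (Equiv.refl P.S)
  exact dvd_of_sys hT hH (FixBN.OfBN.sys (Equiv.refl P.S) cs hcs h) (Tits.OfBN.thick P (Equiv.refl P.S) cs hcs)
    (fun x y => MulAction.exists_smul_eq _ x y) ⟨s, hs⟩ ((1 : T) : T ⧸ P.B)

/-- the parabolic case for the groups of Lie type -/
theorem dvd_of_lie (hT : AS T) (hH : Half H m) {p : ℕ} (hp : p.Prime) (h : Cfsg.IsLieTypeChar p T) :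
    p ∣ H.index := by
  have := hT.simple
  exact dvd_of_hasSplit hT hH hp (H498.LieFree.hasSplit_of_lieChar hp h)

end Main

/-- **The parabolic case.** -/
theorem parabolic : Parabolic := fun _ _ _ _ _ _ _ hT hH hp h _ => dvd_of_lie hT hH hp h

end Cfsg.Agent.TH.Par
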