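import Mathlib
import Cfsg.Agent.TH.Defs
import Cfsg.Agent.TH.ParMain
import Cfsg.Agent.S0675
import Cfsg.Agent.S3356

/-!
# S3541: the data seen inside the socle

`Loc X d` : the properties of `X = H ∩ T` as a subgroup of the socle `T`; `d` is the common subdegree of `G`.
-/

set_option autoImplicit false
set_option linter.unusedSectionVars false

namespace Cfsg.Agent.TH.Gen

open Cfsg.Agent.TH.Par

theorem dvd_ncard {L Ω : Type*} [Group L] [MulAction L Ω] {d : ℕ} (A : Set Ω) (hfin : A.Finite)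
    (hinv : ∀ (h : L), ∀ a ∈ A, h • a ∈ A) (hd : ∀ a ∈ A, Nat.card (MulAction.orbit L a) = d) : d ∣ A.ncard := by
  generalize hn : A.ncard = n
  induction n using Nat.strong_induction_on generalizing A with
  | _ n ih =>
  rcases A.eq_empty_or_nonempty with rfl | ⟨a, ha⟩
  · rw [← hn, Set.ncard_empty]
    exact dvd_zero d
  have h1 : MulAction.orbit L a ⊆ A := by
    rintro _ ⟨h, rfl⟩
    exact hinv h a ha
  have h2 := Set.ncard_sdiff_add_ncard_of_subset h1 hfin
  have h3 : 0 < (MulAction.orbit L a).ncard :=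
    (Set.ncard_pos (hfin.subset h1)).2 ⟨a, MulAction.mem_orbit_self a⟩
  have h4 := ih _ (by omega) (A \ MulAction.orbit L a) (hfin.subset Set.sdiff_subset) (fun h b hb =>
    ⟨hinv h b hb.1, fun h5 => hb.2 (by
      have h6 := MulAction.mem_orbit_of_mem_orbit h⁻¹ h5
      rwa [inv_smul_smul] at h6)⟩) (fun b hb => hd b hb.1) rfl
  rw [← hn, ← h2, ← Nat.card_coe_set_eq (MulAction.orbit L a), hd a ha]
  exact dvd_add h4 dvd_rfl

theorem card_orbit_mul {L Ω : Type*} [Group L] [MulAction L Ω] (a : Ω) :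
    Nat.card (MulAction.orbit L a) * Nat.card (MulAction.stabilizer L a) = Nat.card L := by
  rw [← Nat.card_prod]
  exact Nat.card_congr (MulAction.orbitProdStabilizerEquivGroup _ a)

/-- the data seen inside the socle -/
structure Loc {K : Type*} [Group K] (X : Subgroup K) (d : ℕ) : Prop where
  ne_bot : X ≠ ⊥
  ne_top : X ≠ ⊤
  sub_dvd : ∀ g, g ∉ X → ∃ e, e ∣ d ∧ e * Nat.card ↥(X ⊓ cj g X) = Nat.card X
  dvd : d ∣ X.index - 1
  one_lt : 1 < d
  lt : d < X.index - 1
  not_prime : ¬ X.index.Prime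
  norm : ∀ Y : Subgroup K, Y ≤ X → Y ≠ ⊥ → (∀ σ : MulAut K, (∀ x ∈ X, σ x ∈ X) → ∀ y ∈ Y, σ y ∈ Y) →
    Subgroup.normalizer (Y : Set K) ≤ X
  inv_dvd : ∀ A : Set (K ⧸ X), ((1 : K) : K ⧸ X) ∉ A →
    (∀ σ : MulAut K, (∀ x ∈ X, σ x ∈ X) → ∀ g : K, (g : K ⧸ X) ∈ A → ((σ g : K) : K ⧸ X) ∈ A) → d ∣ A.ncard

section

variable {G : Type*} [Group G] [Finite G] {T H : Subgroup G} {m : ℕ}

theorem mk_ne_one {g : G} : (g : G ⧸ H) ≠ ((1 : G) : G ⧸ H) ↔ g ∉ H := by
  rw [Ne, eq_comm, QuotientGroup.eq, inv_one, one_mul]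

theorem smul_one_eq {g : G} : g • ((1 : G) : G ⧸ H) = ((1 : G) : G ⧸ H) ↔ g ∈ H := by
  rw [MulAction.Quotient.smul_mk, eq_comm, QuotientGroup.eq]
  simp

theorem smul_mk_eq {a g : G} : a • (g : G ⧸ H) = g ↔ a ∈ cj g H := by
  rw [mem_cj, MulAction.Quotient.smul_mk, eq_comm, QuotientGroup.eq, smul_eq_mul, mul_assoc]

theorem div_mul (hH : Half H m) : Nat.card H / m * m = Nat.card H := by
  obtain ⟨g, -, hg, -⟩ := hH.not_two
  rw [← hH.card_inf g hg]
  exact Nat.div_mul_cancel (Subgroup.card_dvd_of_le inf_le_left)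

theorem card_orbit_eq (hH : Half H m) {β : G ⧸ H} (hβ : β ≠ ((1 : G) : G ⧸ H)) :
    Nat.card (MulAction.orbit H β) = Nat.card H / m := by
  have h1 := card_orbit_mul (L := H) β
  rw [card_stab hH hβ, ← div_mul hH] at h1
  exact Nat.eq_of_mul_eq_mul_right (by have := hH.one_lt; omega) h1

theorem smul_ne_one {β : G ⧸ H} (hβ : β ≠ ((1 : G) : G ⧸ H)) {h : G} (hh : h ∈ H) :
    h • β ≠ ((1 : G) : G ⧸ H) := fun h1 => by
  rw [← smul_one_eq.2 hh] at h1
  exact hβ (smul_left_cancel _ h1)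

theorem dvd_of_inv (hH : Half H m) (A : Set (G ⧸ H)) (h1 : ((1 : G) : G ⧸ H) ∉ A)
    (hinv : ∀ h ∈ H, ∀ a ∈ A, h • a ∈ A) : Nat.card H / m ∣ A.ncard :=
  dvd_ncard (L := H) A (Set.toFinite _) (fun h a ha => hinv h h.2 a ha)
    fun _ ha => card_orbit_eq hH fun h => h1 (h ▸ ha)

theorem ncard_compl : ({((1 : G) : G ⧸ H)}ᶜ : Set (G ⧸ H)).ncard = H.index - 1 := by
  rw [Set.ncard_compl, Set.ncard_singleton]
  rfl

theorem d_dvd (hH : Half H m) : Nat.card H / m ∣ H.index - 1 := by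
  rw [← ncard_compl]
  exact dvd_of_inv hH _ (by simp) fun h hh a ha => smul_ne_one ha hh

theorem not_le_cj (hH : Half H m) {g : G} (hg : g ∉ H) : ¬ H ≤ cj g H := fun h => by
  have h1 := hH.card_inf g hg
  rw [inf_eq_left.2 h] at h1
  have h2 : H ≤ H.normalCore := fun a ha b => by
    by_cases hb : b⁻¹ ∈ H
    · exact mul_mem (mul_mem (inv_mem_iff.1 hb) ha) hb
    · have h3 : H ⊓ cj b⁻¹ H = H := Subgroup.eq_of_le_of_card_ge inf_le_left (by rw [hH.card_inf _ hb, h1])
      have h4 : a ∈ cj b⁻¹ H := (inf_eq_left.1 h3) ha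
      rwa [mem_cj, inv_inv] at h4
  rw [hH.core, le_bot_iff] at h2
  have h3 := hH.one_lt
  rw [← h1, h2, Subgroup.card_bot] at h3
  omega

theorem one_lt_d (hH : Half H m) : 1 < Nat.card H / m := by
  obtain ⟨g, -, hg, -⟩ := hH.not_two
  have h1 := div_mul hH
  have h2 : 0 < Nat.card H := Nat.card_pos
  by_contra h
  have h3 : Nat.card H / m = 1 := by
    rcases Nat.eq_zero_or_pos (Nat.card H / m) with h4 | h4
    · rw [h4] at h1; omega
    · omega
  rw [h3, one_mul, ← hH.card_inf g hg] at h1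
  exact not_le_cj hH hg (inf_eq_left.1 (Subgroup.eq_of_le_of_card_ge inf_le_left h1.ge))

theorem not_trans (hH : Half H m)
    (h : ∀ β γ : G ⧸ H, β ≠ ((1 : G) : G ⧸ H) → γ ≠ ((1 : G) : G ⧸ H) → ∃ t ∈ H, t • β = γ) : False := by
  obtain ⟨g1, g2, hg1, hg2, hg⟩ := hH.not_two
  obtain ⟨t, ht, h1⟩ := h g1 g2 (mk_ne_one.2 hg1) (mk_ne_one.2 hg2)
  rw [MulAction.Quotient.smul_mk, QuotientGroup.eq, smul_eq_mul] at h1
  exact hg t ht _ h1 (by group)

theorem d_lt (hH : Half H m) : Nat.card H / m < H.index - 1 := by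
  obtain ⟨g, -, hg, -⟩ := hH.not_two
  have h0 : ∀ β : G ⧸ H, β ≠ ((1 : G) : G ⧸ H) → MulAction.orbit H β ⊆ {((1 : G) : G ⧸ H)}ᶜ := by
    rintro β hβ _ ⟨h, rfl⟩
    exact smul_ne_one hβ h.2
  have h1 := Set.ncard_le_ncard (h0 g (mk_ne_one.2 hg)) (Set.toFinite _)
  rw [ncard_compl, ← Nat.card_coe_set_eq, card_orbit_eq hH (mk_ne_one.2 hg)] at h1
  refine lt_of_le_of_ne h1 fun h2 => not_trans hH fun β γ hβ hγ => ?_
  have h3 : MulAction.orbit H β = {((1 : G) : G ⧸ H)}ᶜ :=
    Set.eq_of_subset_of_ncard_le (h0 β hβ)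
      (by rw [ncard_compl, ← Nat.card_coe_set_eq, card_orbit_eq hH hβ, h2]) (Set.toFinite _)
  have h4 : γ ∈ MulAction.orbit H β := by rw [h3]; exact hγ
  obtain ⟨t, ht⟩ := h4
  exact ⟨t, t.2, ht⟩

theorem faithful (hH : Half H m) : FaithfulSMul G (G ⧸ H) := by
  have h1 : Function.Injective (MulAction.toPermHom G (G ⧸ H)) := by
    rw [← MonoidHom.ker_eq_bot_iff, ← Subgroup.normalCore_eq_ker, hH.core]
  exact ⟨fun h => h1 (Equiv.ext h)⟩

theorem not_solvable (hT : AS T) : ¬ Group.IsSolvable G := fun h => by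
  have := hT.simple
  exact hT.nonab ⟨⟨(IsSimpleGroup.comm_iff_isSolvable (G := T)).2 inferInstance⟩⟩

theorem index_not_prime (hT : AS T) (hH : Half H m) : ¬ H.index.Prime := fun hp => by
  classical
  have := Fintype.ofFinite (G ⧸ H)
  have h1 : Function.Injective (MulAction.toPermHom G (G ⧸ H)) := by
    rw [← MonoidHom.ker_eq_bot_iff, ← Subgroup.normalCore_eq_ker, hH.core]
  have h2 : MulAction.IsPretransitive (MulAction.toPermHom G (G ⧸ H)).range (G ⧸ H) := ⟨fun a b => by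
    obtain ⟨g, hg⟩ := MulAction.exists_smul_eq G a b
    exact ⟨⟨_, g, rfl⟩, hg⟩⟩
  rcases S0675.result (by rwa [← Nat.card_eq_fintype_card]) (MulAction.toPermHom G (G ⧸ H)).range with h | h
  · exact not_solvable hT (Group.isSolvable_of_isSolvable_injective
      (f := (MulAction.toPermHom G (G ⧸ H)).rangeRestrict) (fun a b hab => h1 (congrArg Subtype.val hab)))
  · rw [MulAction.is_two_pretransitive_iff] at h
    refine not_trans hH fun β γ hβ hγ => ?_
    obtain ⟨⟨_, g, rfl⟩, h3, h4⟩ := h (Ne.symm hβ) (Ne.symm hγ)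
    exact ⟨g, smul_one_eq.1 h3, h4⟩

theorem normalizer_eq (hH : Half H m) {Y : Subgroup G} (hY : Y ≠ ⊥) (hYH : Y ≤ H)
    (h : H ≤ Subgroup.normalizer (Y : Set G)) : Subgroup.normalizer (Y : Set G) = H := by
  by_contra hne
  have h1 := hH.max.2 _ (lt_of_le_of_ne h (Ne.symm hne))
  have h2 : Y.Normal := Subgroup.normalizer_eq_top_iff.1 h1
  rw [← Subgroup.normal_le_normalCore, hH.core, le_bot_iff] at hYH
  exact hY hYH

theorem trans_T (hT : AS T) (hH : Half H m) (β : G ⧸ H) : ∃ t ∈ T, ((t : G) : G ⧸ H) = β := by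
  induction β using QuotientGroup.induction_on with
  | _ g =>
  obtain ⟨t, ht, h, hh, rfl⟩ := exists_mul hT hH g
  exact ⟨t, ht, by rw [QuotientGroup.eq]; simpa using hh⟩

theorem sub_ne_bot (hT : AS T) (hH : Half H m) : H.subgroupOf T ≠ ⊥ := fun hbot => by
  have := faithful hH
  have := hT.normal
  have hHb : H ≠ ⊥ := fun h => by
    have h1 := one_lt_d hH
    rw [h, Subgroup.card_bot] at h1
    have h2 := Nat.div_le_self 1 m
    omega
  have hst : ∀ g : G, MulAction.stabilizer G (g : G ⧸ H) = cj g H := fun g => by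
    ext a
    exact smul_mk_eq
  have horb : ∀ (g : G) (b : G ⧸ H), Nat.card (MulAction.orbit (MulAction.stabilizer G (g : G ⧸ H)) b) =
      Nat.card (MulAction.orbit H (g⁻¹ • b)) := fun g b => by
    rw [hst]
    apply le_antisymm
    · exact card_orbit_le g⁻¹ (fun u hu => by simpa using mem_cj.1 hu) b
    · have h1 := card_orbit_le (A := H) (B := cj g H) g (fun u hu => ⟨u, hu, rfl⟩) (g⁻¹ • b)
      rwa [smul_inv_smul] at h1
  have hne : ∀ (g : G) (b : G ⧸ H), b ≠ g → g⁻¹ • b ≠ ((1 : G) : G ⧸ H) := fun g b hb h => by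
    rw [inv_smul_eq_iff, MulAction.Quotient.smul_mk, smul_eq_mul, mul_one] at h
    exact hb h
  refine hT.nonab (S3356.result (G := G) (Ω := G ⧸ H) inferInstance ?_ ?_ T ?_ ?_ ?_).1.choose_spec.2.1
  · intro a
    induction a using QuotientGroup.induction_on with
    | _ g =>
    rw [hst, Ne, Subgroup.map_eq_bot_iff_of_injective _ (MulAut.conj g).injective]
    exact hHb
  · intro a b c hb hc
    induction a using QuotientGroup.induction_on with
    | _ g =>
    exact (horb g b).trans ((card_orbit_eq hH (hne g b hb)).trans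
      ((card_orbit_eq hH (hne g c hc)).symm.trans (horb g c).symm))
  · refine ⟨fun a b => ?_⟩
    obtain ⟨s, hs, rfl⟩ := trans_T hT hH a
    obtain ⟨t, ht, rfl⟩ := trans_T hT hH b
    refine ⟨⟨t * s⁻¹, mul_mem ht (inv_mem hs)⟩, ?_⟩
    show (t * s⁻¹) • (s : G ⧸ H) = t
    rw [MulAction.Quotient.smul_mk, smul_eq_mul, inv_mul_cancel_right]
  · intro a
    induction a using QuotientGroup.induction_on with
    | _ g =>
    rw [eq_bot_iff]
    intro t ht
    have h1 : (t : G) ∈ cj g H := smul_mk_eq.1 ht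
    rw [mem_cj] at h1
    have h2 : g⁻¹ * t * g ∈ T := by simpa using hT.normal.conj_mem t t.2 g⁻¹
    have h3 : (⟨_, h2⟩ : T) ∈ H.subgroupOf T := h1
    rw [hbot, Subgroup.mem_bot] at h3
    have h4 : g⁻¹ * t * g = 1 := congrArg Subtype.val h3
    have h5 : (t : G) = 1 := by
      have h6 : (t : G) = g * (g⁻¹ * t * g) * g⁻¹ := by group
      rw [h6, h4, mul_one, mul_inv_cancel]
    exact Subtype.ext h5
  · obtain ⟨g, -, hg, -⟩ := hH.not_two
    refine ⟨((1 : G) : G ⧸ H), g, (mk_ne_one.2 hg).symm, fun h => ?_⟩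
    have h1 := hH.card_inf g hg
    have h2 : MulAction.stabilizer G ((1 : G) : G ⧸ H) = H := by
      ext a
      exact smul_one_eq
    rw [h2, hst] at h
    have h3 := hH.one_lt
    rw [← h1, h, Subgroup.card_bot] at h3
    omega

/-- the points seen from the socle -/
def toPt (T H : Subgroup G) : T ⧸ H.subgroupOf T → G ⧸ H :=
  Quotient.map' Subtype.val fun a b hab => by
    rw [QuotientGroup.leftRel_apply] at hab ⊢
    exact hab

theorem toPt_mk (t : T) : toPt T H (t : T ⧸ H.subgroupOf T) = ((t : G) : G ⧸ H) := rfl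

theorem toPt_injective : Function.Injective (toPt T H) := by
  intro a b hab
  induction a using QuotientGroup.induction_on with
  | _ a =>
  induction b using QuotientGroup.induction_on with
  | _ b =>
  rw [toPt_mk, toPt_mk, QuotientGroup.eq] at hab
  rw [QuotientGroup.eq]
  exact hab

theorem index_eq (hT : AS T) (hH : Half H m) : (H.subgroupOf T).index = H.index :=
  Nat.card_congr (Equiv.ofBijective (toPt T H) ⟨toPt_injective, fun β => by
    obtain ⟨t, ht, rfl⟩ := trans_T hT hH β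
    exact ⟨(⟨t, ht⟩ : T), rfl⟩⟩)

theorem loc (hT : AS T) (hH : Half H m) : Loc (H.subgroupOf T) (Nat.card H / m) := by
  have := hT.normal
  have hσ : ∀ h ∈ H, ∀ x ∈ H.subgroupOf T, MulAut.conjNormal h x ∈ H.subgroupOf T := fun h hh x hx =>
    mul_mem (mul_mem hh hx) (inv_mem hh)
  refine ⟨sub_ne_bot hT hH, fun h => not_le hT hH (Subgroup.subgroupOf_eq_top.1 h), fun g hg => ?_,
    index_eq hT hH ▸ d_dvd hH, one_lt_d hH, index_eq hT hH ▸ d_lt hH, index_eq hT hH ▸ index_not_prime hT hH,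
    fun Y hYX hY hinv => ?_, fun A h1 hinv => ?_⟩
  · refine ⟨Nat.card (MulAction.orbit ↥(H ⊓ T) ((g : G) : G ⧸ H)), ?_, ?_⟩
    · rw [← card_orbit_eq hH (mk_ne_one.2 hg), Nat.card_coe_set_eq (MulAction.orbit H _)]
      refine dvd_ncard (L := ↥(H ⊓ T)) _ (Set.toFinite _) ?_ ?_
      · intro h a ha
        exact MulAction.mem_orbit_of_mem_orbit (⟨h.1, h.2.1⟩ : H) ha
      · rintro _ ⟨h, rfl⟩
        have h2 : ∀ k ∈ H, ∀ u ∈ H ⊓ T, k * u * k⁻¹ ∈ H ⊓ T := fun k hk u hu =>
          ⟨H.mul_mem (H.mul_mem hk hu.1) (H.inv_mem hk), hT.normal.conj_mem u hu.2 k⟩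
        apply le_antisymm
        · have h3 := card_orbit_le (h : G)⁻¹ (h2 _ (inv_mem h.2)) ((h : G) • ((g : G) : G ⧸ H))
          rwa [inv_smul_smul] at h3
        · exact card_orbit_le (h : G) (h2 _ h.2) _
    · have h2 : Nat.card ↥(H.subgroupOf T ⊓ cj g (H.subgroupOf T)) =
          Nat.card (MulAction.stabilizer ↥(H ⊓ T) ((g : G) : G ⧸ H)) := Nat.card_congr
        { toFun := fun a => ⟨⟨a.1.1, a.2.1, a.1.2⟩, (smul_mk_eq (a := (a.1 : G)) (g := (g : G))).2
            (mem_cj.2 (mem_cj.1 (show a.1 ∈ cj g (H.subgroupOf T) from a.2.2) :))⟩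
          invFun := fun a => ⟨⟨a.1.1, a.1.2.2⟩, a.1.2.1, mem_cj.2
            (mem_cj.1 ((smul_mk_eq (a := (a.1 : G)) (g := (g : G))).1 a.2) :)⟩
          left_inv := fun _ => rfl
          right_inv := fun _ => rfl }
      rw [h2, card_orbit_mul]
      exact Nat.card_congr
        { toFun := fun a => ⟨⟨a.1, a.2.2⟩, a.2.1⟩
          invFun := fun a => ⟨a.1.1, a.2, a.1.2⟩
          left_inv := fun _ => rfl
          right_inv := fun _ => rfl }
  · have h1 : Subgroup.normalizer (Y.map T.subtype : Set G) = H := by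
      refine normalizer_eq hH ?_ ?_ ?_
      · rwa [Ne, Subgroup.map_eq_bot_iff_of_injective _ T.subtype_injective]
      · rintro _ ⟨y, hy, rfl⟩
        exact hYX hy
      · have h2 : ∀ h ∈ H, ∀ y ∈ Y.map T.subtype, h * y * h⁻¹ ∈ Y.map T.subtype := by
          rintro h hh _ ⟨y, hy, rfl⟩
          exact ⟨_, hinv _ (hσ h hh) y hy, rfl⟩
        intro h hh
        rw [Subgroup.mem_normalizer_iff]
        refine fun y => ⟨h2 h hh y, fun hy => ?_⟩
        simpa [mul_assoc] using h2 h⁻¹ (inv_mem hh) _ hy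
    intro g hg
    rw [Subgroup.mem_subgroupOf, ← h1, Subgroup.mem_normalizer_iff]
    rw [Subgroup.mem_normalizer_iff] at hg
    intro y
    constructor
    · rintro ⟨y, hy, rfl⟩
      exact ⟨_, (hg y).1 hy, rfl⟩
    · rintro ⟨z, hz, h2⟩
      refine ⟨g⁻¹ * z * g, (hg _).2 (by simpa [mul_assoc] using hz), ?_⟩
      have h3 : (z : G) = g * y * (g : G)⁻¹ := h2
      show (g : G)⁻¹ * z * g = y
      rw [h3]
      group
  · rw [← Set.ncard_image_of_injective A toPt_injective]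
    refine dvd_of_inv hH _ ?_ ?_
    · rintro ⟨a, ha, h2⟩
      exact h1 (toPt_injective (h2.trans (toPt_mk (1 : T)).symm) ▸ ha)
    · rintro h hh _ ⟨a, ha, rfl⟩
      induction a using QuotientGroup.induction_on with
      | _ t =>
      refine ⟨_, hinv _ (hσ h hh) t ha, ?_⟩
      rw [toPt_mk, toPt_mk, MulAction.Quotient.smul_mk, QuotientGroup.eq, smul_eq_mul, MulAut.conjNormal_apply]
      simpa [mul_assoc] using hh

/-- a subgroup whose order does not divide `m` fixes only one point -/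
theorem mem_of_not_dvd (hH : Half H m) {Y : Subgroup G} (hY : Y ≤ H) (h : ¬ Nat.card Y ∣ m) {g : G}
    (hg : Y ≤ cj g H) : g ∈ H := by
  by_contra hgH
  exact h (hH.card_inf g hgH ▸ Subgroup.card_dvd_of_le (le_inf hY hg))

theorem card_eq_mul (hT : AS T) (hH : Half H m) : Nat.card H = Nat.card (H.subgroupOf T) * T.index := by
  have h1 := H.card_mul_index
  have h2 := T.card_mul_index
  have h3 := (H.subgroupOf T).card_mul_index
  rw [index_eq hT hH] at h3
  have h4 : 0 < H.index := Nat.pos_of_ne_zero Subgroup.index_ne_zero_of_finite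
  refine Nat.eq_of_mul_eq_mul_right h4 ?_
  rw [h1, ← h2, ← h3]
  ring

end

end Cfsg.Agent.TH.Gen
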