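import Mathlib
import Cfsg.Agent.TH.GenLoc

/-!
# S3541: Sylow subgroups of the point stabiliser in the socle

`Good X r` : every `X ⊓ g X g⁻¹` contains a Sylow `r`-subgroup of `X`.
-/

set_option autoImplicit false
set_option linter.unusedSectionVars false

namespace Cfsg.Agent.TH.Gen

variable {K : Type*} [Group K] [Finite K] {X : Subgroup K} {d r : ℕ}

/-- counting by pairs of conjugate elements -/
theorem pair_count (A S₁ S₂ : Set K) {c : ℕ} (hc : ∀ u ∈ S₁, Nat.card (Subgroup.centralizer ({u} : Set K)) ≤ c)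
    (h : ∀ g ∈ A, ∃ u ∈ S₁, g⁻¹ * u * g ∈ S₂) : A.ncard ≤ S₁.ncard * S₂.ncard * c := by
  classical
  have := Fintype.ofFinite K
  have h1 : A.toFinset ⊆ (S₁.toFinset ×ˢ S₂.toFinset).biUnion
      fun z => Finset.univ.filter fun g => g⁻¹ * z.1 * g = z.2 := by
    intro g hg
    obtain ⟨u, hu, hu'⟩ := h g (Set.mem_toFinset.1 hg)
    rw [Finset.mem_biUnion]
    exact ⟨(u, g⁻¹ * u * g), Finset.mem_product.2 ⟨Set.mem_toFinset.2 hu, Set.mem_toFinset.2 hu'⟩,
      Finset.mem_filter.2 ⟨Finset.mem_univ _, rfl⟩⟩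
  rw [Set.ncard_eq_toFinset_card', Set.ncard_eq_toFinset_card', Set.ncard_eq_toFinset_card', ← Finset.card_product]
  refine (Finset.card_le_card h1).trans (Finset.card_biUnion_le_card_mul _ _ _ ?_)
  rintro ⟨u, v⟩ hz
  have hu := Set.mem_toFinset.1 (Finset.mem_product.1 hz).1
  rcases (Finset.univ.filter fun g : K => g⁻¹ * u * g = v).eq_empty_or_nonempty with h2 | ⟨g0, hg0⟩
  · show (Finset.univ.filter fun g : K => g⁻¹ * u * g = v).card ≤ c
    rw [h2]
    exact Nat.zero_le _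
  · refine le_trans ?_ (hc u hu)
    have h3 := (Finset.mem_filter.1 hg0).2
    rw [← Fintype.card_coe, ← Nat.card_eq_fintype_card]
    refine Nat.card_le_card_of_injective (fun g => ⟨g.1 * g0⁻¹, ?_⟩) ?_
    · have h4 : g.1⁻¹ * u * g.1 = g0⁻¹ * u * g0 := ((Finset.mem_filter.1 g.2).2).trans h3.symm
      rw [Subgroup.mem_centralizer_singleton_iff]
      calc g.1 * g0⁻¹ * u = g.1 * (g0⁻¹ * u * g0) * g0⁻¹ := by group
        _ = u * (g.1 * g0⁻¹) := by rw [← h4]; group
    · intro a b hab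
      exact Subtype.ext (mul_right_cancel (congrArg Subtype.val hab))

/-- every `X ⊓ g X g⁻¹` contains a Sylow `r`-subgroup of `X` -/
def Good (X : Subgroup K) (r : ℕ) : Prop := ∀ g : K, ∃ P : Sylow r X, ∀ u ∈ (P : Subgroup X), g⁻¹ * u * g ∈ X

theorem Loc.not_dvd (h : Loc X d) (hr : r.Prime) (hn : r ∣ X.index) : ¬ r ∣ d := fun hd => by
  have h1 : 1 ≤ X.index := Nat.pos_of_ne_zero Subgroup.index_ne_zero_of_finite
  have h2 := Nat.dvd_sub hn (hd.trans h.dvd)
  rw [Nat.sub_sub_self h1] at h2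
  exact hr.one_lt.ne' (Nat.dvd_one.1 h2)

theorem Loc.good (h : Loc X d) [hr : Fact r.Prime] (hd : ¬ r ∣ d) : Good X r := fun g => by
  by_cases hg : g ∈ X
  · obtain ⟨P⟩ : Nonempty (Sylow r X) := inferInstance
    exact ⟨P, fun u _ => mul_mem (mul_mem (inv_mem hg) u.2) hg⟩
  obtain ⟨e, he, he'⟩ := h.sub_dvd g hg
  obtain ⟨R⟩ : Nonempty (Sylow r ((cj g X).subgroupOf X)) := inferInstance
  have h1 : ((cj g X).subgroupOf X).index = e := by
    have h2 := ((cj g X).subgroupOf X).card_mul_index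
    have h3 : Nat.card ((cj g X).subgroupOf X) = Nat.card ↥(X ⊓ cj g X) := Nat.card_congr
      { toFun := fun a => ⟨a.1.1, a.1.2, a.2⟩
        invFun := fun a => ⟨⟨a.1, a.2.1⟩, a.2.2⟩
        left_inv := fun _ => rfl
        right_inv := fun _ => rfl }
    rw [h3, ← he', mul_comm] at h2
    exact Nat.eq_of_mul_eq_mul_right Nat.card_pos h2
  refine ⟨(R.isPGroup'.map ((cj g X).subgroupOf X).subtype).toSylow ?_, ?_⟩
  · rw [Subgroup.index_map_subtype, h1, hr.1.dvd_mul]
    rintro (h2 | h2)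
    · exact R.not_dvd_index h2
    · exact hd (h2.trans he)
  · rintro _ ⟨u, -, rfl⟩
    exact mem_cj.1 u.2

theorem Loc.good_of_index (h : Loc X d) [hr : Fact r.Prime] (hn : r ∣ X.index) : Good X r :=
  h.good (h.not_dvd hr.1 hn)

theorem eq_bot_of_forall [IsSimpleGroup K] (hX : X ≠ ⊤) {V : Subgroup K} (h : ∀ g : K, ∀ v ∈ V, g⁻¹ * v * g ∈ X) :
    V = ⊥ := by
  have h1 : V ≤ X.normalCore := fun v hv g => by simpa using h g⁻¹ v hv
  rcases (X.normalCore_normal).eq_bot_or_eq_top with h2 | h2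
  · rwa [h2, le_bot_iff] at h1
  · exact absurd (eq_top_iff.2 (h2 ▸ X.normalCore_le)) hX

theorem Good.eq_bot [IsSimpleGroup K] [Fact r.Prime] (hg : Good X r) (hX : X ≠ ⊤) {V : Subgroup X} [V.Normal]
    (hV : IsPGroup r V) : V = ⊥ := by
  rw [← Subgroup.map_eq_bot_iff_of_injective _ X.subtype_injective]
  refine eq_bot_of_forall hX fun g => ?_
  rintro _ ⟨v, hv, rfl⟩
  obtain ⟨P, hP⟩ := hg g
  obtain ⟨Q, hQ⟩ := hV.exists_le_sylow
  obtain ⟨x, rfl⟩ := MulAction.exists_smul_eq X Q P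
  refine hP v ?_
  rw [Sylow.coe_subgroup_smul]
  refine ⟨x⁻¹ * v * x, hQ (by simpa using (inferInstance : V.Normal).conj_mem v hv x⁻¹), ?_⟩
  simp [mul_assoc]

theorem isPGroup_zpowers {L : Type*} [Group L] {u : L} {k : ℕ} (h : u ^ r ^ k = 1) :
    IsPGroup r (Subgroup.zpowers u) := by
  rintro ⟨_, j, rfl⟩
  refine ⟨k, Subtype.ext ?_⟩
  show (u ^ j) ^ r ^ k = 1
  rw [← zpow_natCast, ← zpow_mul, mul_comm, zpow_mul, zpow_natCast, h, one_zpow]

/-- the basic inequality -/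
theorem Good.card_le [hr : Fact r.Prime] (hg : Good X r) (hdvd : r ∣ Nat.card X) (R : Sylow r X) {c : ℕ}
    (hc : ∀ u ∈ X, u ≠ 1 → (∃ k, u ^ r ^ k = 1) → Nat.card (Subgroup.centralizer ({u} : Set K)) ≤ c) :
    Nat.card K ≤ Nat.card (Sylow r X) * (Nat.card (Sylow r X) * (Nat.card (R : Subgroup X) - 1)) * c := by
  classical
  have h1 : ∀ P : Sylow r X, ∃ u ∈ (P : Subgroup X), u ≠ 1 := fun P =>
    (Subgroup.bot_or_exists_ne_one _).resolve_left (P.ne_bot_of_dvd_card hdvd)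
  choose f hf hf' using h1
  have := Fintype.ofFinite (Sylow r X)
  have := Fintype.ofFinite X
  have h2 := pair_count Set.univ (Set.range fun P => (f P : K))
    (Subtype.val '' ((Finset.univ.biUnion fun P : Sylow r X =>
      (Finset.univ.filter fun u : X => u ∈ (P : Subgroup X)).erase 1 : Finset X) : Set X)) (c := c) ?_ ?_
  · rw [Set.ncard_univ] at h2
    refine h2.trans (Nat.mul_le_mul_right _ (Nat.mul_le_mul ?_ ?_))
    · rw [← Nat.card_coe_set_eq]
      exact Finite.card_range_le _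
    · rw [Set.ncard_image_of_injective _ Subtype.val_injective, Set.ncard_coe_finset]
      refine (Finset.card_biUnion_le_card_mul _ _ (Nat.card (R : Subgroup X) - 1) fun P _ => ?_).trans (le_of_eq ?_)
      · rw [Finset.card_erase_of_mem (by simp [one_mem]), ← Fintype.card_subtype, ← Nat.card_eq_fintype_card]
        exact le_of_eq (congrArg (· - 1) (Nat.card_congr (Sylow.equiv P R).toEquiv))
      · rw [Finset.card_univ, Nat.card_eq_fintype_card (α := Sylow r X)]
  · rintro _ ⟨P, rfl⟩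
    obtain ⟨k, hk⟩ := P.isPGroup' ⟨f P, hf P⟩
    exact hc _ (f P).2 (fun h => hf' P (Subtype.ext h))
      ⟨k, congrArg (fun z : (P : Subgroup X) => ((z : X) : K)) hk⟩
  · intro g _
    obtain ⟨P, hP⟩ := hg g
    refine ⟨_, ⟨P, rfl⟩, ⟨_, hP _ (hf P)⟩, ?_, rfl⟩
    obtain ⟨k, hk⟩ := P.isPGroup' ⟨f P, hf P⟩
    have hk' : (f P : K) ^ r ^ k = 1 := congrArg (fun z : (P : Subgroup X) => ((z : X) : K)) hk
    have h3 : (⟨_, hP _ (hf P)⟩ : X) ^ r ^ k = 1 := by
      apply Subtype.ext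
      show (g⁻¹ * f P * g) ^ r ^ k = 1
      have h4 := conj_pow (a := g⁻¹) (b := (f P : K)) (i := r ^ k)
      rw [inv_inv] at h4
      rw [h4, hk', mul_one, inv_mul_cancel]
    obtain ⟨Q, hQ⟩ := (isPGroup_zpowers h3).exists_le_sylow
    simp only [Finset.coe_biUnion, Finset.coe_univ, Set.mem_univ, Set.iUnion_true, Set.mem_iUnion, Finset.mem_coe,
      Finset.mem_erase, Finset.mem_filter, Finset.mem_univ, true_and]
    refine ⟨Q, fun h => hf' P (Subtype.ext ?_), hQ (Subgroup.mem_zpowers _)⟩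
    have h5 : g⁻¹ * f P * g = 1 := congrArg Subtype.val h
    have h6 : (f P : K) = g * (g⁻¹ * f P * g) * g⁻¹ := by group
    rw [h6, h5, mul_one, mul_inv_cancel]
    rfl

/-- the point stabiliser in the socle is not abelian -/
theorem Loc.not_comm [IsSimpleGroup K] (h : Loc X d) : ¬ IsMulCommutative X := fun hc => by
  obtain ⟨r, hr, hdvd⟩ := Nat.exists_prime_and_dvd (fun h1 => h.ne_bot (Subgroup.card_eq_one.1 h1))
  have := Fact.mk hr
  obtain ⟨R⟩ : Nonempty (Sylow r X) := inferInstance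
  have hN : (R : Subgroup X).Normal := ⟨fun a ha b => by
    rwa [hc.1.comm b a, mul_inv_cancel_right]⟩
  have hR := R.ne_bot_of_dvd_card hdvd
  have h1 : ¬ r ∣ X.index := fun h2 => hR ((h.good_of_index h2).eq_bot h.ne_top R.isPGroup')
  let P : Sylow r K := (R.isPGroup'.map X.subtype).toSylow (by
    rw [Subgroup.index_map_subtype, hr.dvd_mul]
    rintro (h2 | h2)
    · exact R.not_dvd_index h2
    · exact h1 h2)
  have hPX : (P : Subgroup K) ≤ X := Subgroup.map_subtype_le _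
  have h2 : Subgroup.normalizer ((P : Subgroup K) : Set K) ≤ X := by
    refine h.norm _ hPX ?_ ?_
    · show (R : Subgroup X).map X.subtype ≠ ⊥
      rwa [Ne, Subgroup.map_eq_bot_iff_of_injective _ X.subtype_injective]
    · rintro σ hσ _ ⟨y, hy, rfl⟩
      obtain ⟨k, hk⟩ := R.isPGroup' ⟨y, hy⟩
      have hk' : (y : K) ^ r ^ k = 1 := congrArg (fun z : (R : Subgroup X) => ((z : X) : K)) hk
      have h3 : (⟨σ y, hσ y y.2⟩ : X) ^ r ^ k = 1 := by
        apply Subtype.ext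
        show (σ y) ^ r ^ k = 1
        rw [← map_pow, hk', map_one]
      obtain ⟨Q, hQ⟩ := (isPGroup_zpowers h3).exists_le_sylow
      have := Sylow.unique_of_normal R hN
      rw [Subsingleton.elim Q R] at hQ
      exact ⟨_, hQ (Subgroup.mem_zpowers _), rfl⟩
  have h3 : Subgroup.normalizer ((P : Subgroup K) : Set K) ≤ Subgroup.centralizer ((P : Subgroup K) : Set K) :=
    fun g hg u hu => congrArg Subtype.val (hc.1.comm (⟨u, hPX hu⟩ : X) ⟨g, h2 hg⟩)
  rcases (MonoidHom.normal_ker (MonoidHom.transferSylow P h3)).eq_bot_or_eq_top with h4 | h4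
  · have h5 := MonoidHom.ker_transferSylow_isComplement' P h3
    rw [h4, Subgroup.isComplement'_bot_left] at h5
    exact h.ne_top (eq_top_iff.2 (h5 ▸ hPX))
  · have h5 := MonoidHom.not_dvd_card_ker_transferSylow P h3
    rw [h4, Subgroup.card_top] at h5
    exact h5 (hdvd.trans X.card_subgroup_dvd_card)

end Cfsg.Agent.TH.Gen
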