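import Cfsg.Agent.TH.Soc
import Cfsg.Agent.TH.GenSig
import Cfsg.Agent.TH.GenLin
import Cfsg.Agent.TH.GenSyl
import Cfsg.Agent.TH.ParMain
import Cfsg.Agent.TH.Alt.Gen
import Cfsg.Agent.TH.Boxes

/-!
# S3541: subnormal subgroups of the point stabiliser, and the ambient form of the basic facts (helper73)

`In G H m` : `H ≤ G` are subgroups of an ambient group and `Half (H.subgroupOf G) m`.
-/

set_option autoImplicit false
set_option linter.unusedSectionVars false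

namespace Cfsg.Agent.TH

section

variable {G : Type*} [Group G] [Finite G] {H : Subgroup G} {m : ℕ}

/-- the orbits of a normal subgroup `B` of `M` have length dividing the length of the orbits of `M` -/
theorem relIndex_dvd_of_normal {K M B : Subgroup G} (hB : B ≤ M) (hn : ∀ a ∈ M, ∀ x ∈ B, a * x * a⁻¹ ∈ B) :
    K.relIndex B ∣ K.relIndex M := by
  have h1 : (B.subgroupOf M).Normal := ⟨fun x hx a => hn a a.2 x hx⟩
  have h2 := relIndex_dvd_index_of_normal_right (K.subgroupOf M) (B.subgroupOf M)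
  rwa [Subgroup.relIndex_subgroupOf hB] at h2

/-- if `K ⊓ B` has index prime to `s` in `B`, every `s`-subgroup of `B` is `B`-conjugate into `K` -/
theorem exists_cj_le_of_relIndex {s : ℕ} [Fact s.Prime] {K B Y : Subgroup G} (h : ¬ s ∣ K.relIndex B)
    (hY : IsPGroup s Y) (hYB : Y ≤ B) : ∃ b ∈ B, cj b Y ≤ K := by
  obtain ⟨b, hb⟩ := Alt.exists_cj_le_of_not_dvd (H := K.subgroupOf B) h (Y := Y.subgroupOf B)
    (hY.comap_of_injective B.subtype B.subtype_injective)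
  refine ⟨b, b.2, ?_⟩
  rintro _ ⟨y, hy, rfl⟩
  exact hb (conj_mem_cj b (x := ⟨y, hYB hy⟩) hy)

theorem le_normalizer_of_conj {M N : Subgroup G} (h : ∀ a ∈ M, ∀ x ∈ N, a * x * a⁻¹ ∈ N) :
    M ≤ Subgroup.normalizer (N : Set G) := fun a ha => Subgroup.mem_normalizer_iff.2 fun x =>
  ⟨h a ha x, fun hx => by simpa [mul_assoc] using h _ (inv_mem ha) _ hx⟩

/-- the orbits of `B ⊴ M ⊴ H` have length dividing `d` -/
theorem Half.relIndex_dvd_d₂ (hH : Half H m) {M B : Subgroup G} (hM : M ≤ H) (hMn : ∀ a ∈ H, ∀ x ∈ M, a * x * a⁻¹ ∈ M)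
    (hB : B ≤ M) (hBn : ∀ a ∈ M, ∀ x ∈ B, a * x * a⁻¹ ∈ B) (g : G) : (TH.cj g H).relIndex B ∣ Nat.card H / m :=
  (relIndex_dvd_of_normal hB hBn).trans (hH.relIndex_dvd_d hM (le_normalizer_of_conj hMn) g)

/-- **UNI** : `B ⊴ M ⊴ H`, `s ∤ d`; every `s`-subgroup of `B` is `B`-conjugate into every conjugate of `H` -/
theorem Half.uni (hH : Half H m) {s : ℕ} [Fact s.Prime] (hs : ¬ s ∣ Nat.card H / m) {M B Y : Subgroup G} (hM : M ≤ H)
    (hMn : ∀ a ∈ H, ∀ x ∈ M, a * x * a⁻¹ ∈ M) (hB : B ≤ M) (hBn : ∀ a ∈ M, ∀ x ∈ B, a * x * a⁻¹ ∈ B)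
    (hY : IsPGroup s Y) (hYB : Y ≤ B) (g : G) : ∃ b ∈ B, TH.cj b Y ≤ TH.cj g H :=
  exists_cj_le_of_relIndex (fun h => hs (h.trans (hH.relIndex_dvd_d₂ hM hMn hB hBn g))) hY hYB

theorem LieCtx.dvd_index {G : Type} [Group G] [Finite G] {T H : Subgroup G} {m p : ℕ} (c : LieCtx T H m p) :
    p ∣ H.index := Par.dvd_of_lie c.as c.half c.prime c.lie

theorem LieCtx.not_dvd_d {G : Type} [Group G] [Finite G] {T H : Subgroup G} {m p : ℕ} (c : LieCtx T H m p) :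
    ¬ p ∣ Nat.card H / m := c.half.not_dvd_d c.prime c.dvd_index

theorem AS.inf_not_comm {T : Subgroup G} (hT : AS T) (hH : Half H m) : ¬ ∀ a ∈ H ⊓ T, ∀ b ∈ H ⊓ T, a * b = b * a := by
  intro h
  have := hT.simple
  exact (Gen.loc hT hH).not_comm ⟨⟨fun a b => Subtype.ext (Subtype.ext (h _ ⟨a.2, a.1.2⟩ _ ⟨b.2, b.1.2⟩))⟩⟩

end

/-- the ambient form of `Half` -/
structure In {Γ : Type*} [Group Γ] (G H : Subgroup Γ) (m : ℕ) : Prop where
  le : H ≤ G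
  half : Half (H.subgroupOf G) m

namespace In

variable {Γ : Type*} [Group Γ] {G H : Subgroup Γ} {m : ℕ}

theorem card_sub {Y : Subgroup Γ} (h : Y ≤ G) : Nat.card (Y.subgroupOf G) = Nat.card Y :=
  Nat.card_congr (Subgroup.subgroupOfEquivOfLe h).toEquiv

theorem cj_sub (g : G) (Y : Subgroup Γ) : cj g (Y.subgroupOf G) = (cj (g : Γ) Y).subgroupOf G := by
  ext x
  rw [mem_cj, Subgroup.mem_subgroupOf, Subgroup.mem_subgroupOf, mem_cj]
  rfl

theorem cj_le {g : Γ} (hg : g ∈ G) {Y : Subgroup Γ} (h : Y ≤ G) : cj g Y ≤ G := by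
  rintro _ ⟨y, hy, rfl⟩
  exact mul_mem (mul_mem hg (h hy)) (inv_mem hg)

theorem sub_le {Y Z : Subgroup Γ} (h : Y ≤ G) : Y.subgroupOf G ≤ Z.subgroupOf G ↔ Y ≤ Z :=
  ⟨fun h' y hy => h' (show (⟨y, h hy⟩ : G) ∈ Y.subgroupOf G from hy), fun h' _ hy => h' hy⟩

variable (c : In G H m)
include c

theorem card_H : Nat.card (H.subgroupOf G) = Nat.card H := card_sub c.le

/-- **MAX** -/
theorem max {M : Subgroup Γ} (h1 : H ≤ M) (h2 : M ≤ G) (h3 : ¬ G ≤ M) : M = H := by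
  by_contra hne
  have h4 : H.subgroupOf G < M.subgroupOf G :=
    lt_of_le_of_ne (fun _ hx => h1 hx) fun e => hne (le_antisymm ((sub_le h2).1 e.ge) h1)
  have h5 := c.half.max.2 _ h4
  exact h3 fun x hx => (show (⟨x, hx⟩ : G) ∈ M.subgroupOf G from h5 ▸ Subgroup.mem_top _)

theorem card_inf {g : Γ} (hg : g ∈ G) (hn : g ∉ H) : Nat.card ↥(H ⊓ cj g H) = m := by
  rw [← c.half.card_inf ⟨g, hg⟩ hn, cj_sub, ← card_sub (G := G) (inf_le_left.trans c.le)]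
  rfl

theorem card_dvd_m {Y : Subgroup Γ} {g : Γ} (hg : g ∈ G) (hn : g ∉ H) (h1 : Y ≤ H) (h2 : Y ≤ cj g H) :
    Nat.card Y ∣ m := by
  rw [← c.card_inf hg hn]
  exact Subgroup.card_dvd_of_le (le_inf h1 h2)

/-- **near points** : a subgroup of `H` centralised by an element of `G` outside `H` has order dividing `m` -/
theorem near {Y : Subgroup Γ} {u : Γ} (hu : u ∈ G) (hn : u ∉ H) (h1 : Y ≤ H) (h2 : ∀ y ∈ Y, u * y = y * u) :
    Nat.card Y ∣ m :=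
  c.card_dvd_m hu hn h1 fun y hy => mem_cj.2 (by rw [mul_assoc, ← h2 y hy, inv_mul_cancel_left]; exact h1 hy)

/-- **far points** : `m` divides the order of every finite group in which a two point stabiliser embeds -/
theorem far {X : Type*} [Group X] {g : Γ} (hg : g ∈ G) (hn : g ∉ H) (f : ↥(H ⊓ cj g H) →* X)
    (hf : Function.Injective f) : m ∣ Nat.card X := by
  rw [← c.card_inf hg hn]
  exact Subgroup.card_dvd_of_injective f hf

theorem d_mul : Nat.card H / m * m = Nat.card H := by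
  have := c.half.d_mul
  rwa [c.card_H] at this

variable [Finite Γ]

theorem d_dvd : Nat.card H / m ∣ H.relIndex G - 1 := by
  have := c.half.d_dvd
  rwa [c.card_H] at this

theorem exists_index_eq : ∃ k, 2 ≤ k ∧ H.relIndex G = k * (Nat.card H / m) + 1 := by
  have := c.half.exists_index_eq
  rwa [c.card_H] at this

theorem not_dvd_d {s : ℕ} (hs : s.Prime) (h : s ∣ H.relIndex G) : ¬ s ∣ Nat.card H / m := by
  have := c.half.not_dvd_d hs h
  rwa [c.card_H] at this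

theorem relIndex_dvd_d₂ {M B : Subgroup Γ} (hM : M ≤ H) (hMn : ∀ a ∈ H, ∀ x ∈ M, a * x * a⁻¹ ∈ M)
    (hB : B ≤ M) (hBn : ∀ a ∈ M, ∀ x ∈ B, a * x * a⁻¹ ∈ B) {g : Γ} (hg : g ∈ G) :
    (cj g H).relIndex B ∣ Nat.card H / m := by
  have h1 := c.half.relIndex_dvd_d₂ (M := M.subgroupOf G) (B := B.subgroupOf G) (fun _ hx => hM hx)
    (fun a ha x hx => hMn a ha x hx) (fun _ hx => hB hx) (fun a ha x hx => hBn a ha x hx) ⟨g, hg⟩
  rwa [c.card_H, cj_sub, Subgroup.relIndex_subgroupOf (hB.trans (hM.trans c.le))] at h1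

/-- **UNI** -/
theorem uni {s : ℕ} [Fact s.Prime] (hs : ¬ s ∣ Nat.card H / m) {M B Y : Subgroup Γ} (hM : M ≤ H)
    (hMn : ∀ a ∈ H, ∀ x ∈ M, a * x * a⁻¹ ∈ M) (hB : B ≤ M) (hBn : ∀ a ∈ M, ∀ x ∈ B, a * x * a⁻¹ ∈ B)
    (hY : IsPGroup s Y) (hYB : Y ≤ B) {g : Γ} (hg : g ∈ G) : ∃ b ∈ B, cj b Y ≤ cj g H :=
  exists_cj_le_of_relIndex (fun h => hs (h.trans (c.relIndex_dvd_d₂ hM hMn hB hBn hg))) hY hYB

/-- **SYL** -/
theorem syl {s : ℕ} [Fact s.Prime] (hs : ¬ s ∣ Nat.card H / m) {Y : Subgroup Γ} (hY : IsPGroup s Y) (hYH : Y ≤ H)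
    {g : Γ} (hg : g ∈ G) : ∃ b ∈ H, cj b Y ≤ cj g H :=
  have h : ∀ a ∈ H, ∀ x ∈ H, a * x * a⁻¹ ∈ H := fun _ ha _ hx => mul_mem (mul_mem ha hx) (inv_mem ha)
  c.uni hs le_rfl h le_rfl h hY hYH hg

/-- a normal `s`-subgroup of `H` is trivial unless `s ∣ d` -/
theorem eq_bot_of_isPGroup {s : ℕ} [Fact s.Prime] (hs : ¬ s ∣ Nat.card H / m) {N : Subgroup Γ} (hN : N ≤ H)
    (hn : ∀ a ∈ H, ∀ x ∈ N, a * x * a⁻¹ ∈ N) (hp : IsPGroup s N) : N = ⊥ := by
  by_contra h0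
  refine hs ?_
  rw [← c.card_H]
  refine c.half.dvd_d_of_normal (N := N.subgroupOf G) (fun e => h0 (eq_bot_iff.2 fun x hx => ?_)) (fun _ hx => hN hx)
    (le_normalizer_of_conj fun a ha x hx => hn a ha x hx) (hp.comap_of_injective G.subtype G.subtype_injective)
  have h1 : (⟨x, c.le (hN hx)⟩ : G) ∈ N.subgroupOf G := hx
  rw [e] at h1
  exact congrArg Subtype.val (Subgroup.mem_bot.1 h1)

/-- a non-trivial subgroup of `H` moves some point -/
theorem exists_not_le {N : Subgroup Γ} (h0 : N ≠ ⊥) (hN : N ≤ H) : ∃ g ∈ G, g ∉ H ∧ ¬ N ≤ cj g H := by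
  obtain ⟨g, h1, h2⟩ := c.half.exists_not_le (N := N.subgroupOf G) (fun e => h0 (eq_bot_iff.2 fun x hx => by
    have h1 : (⟨x, c.le (hN hx)⟩ : G) ∈ N.subgroupOf G := hx
    rw [e] at h1
    exact congrArg Subtype.val (Subgroup.mem_bot.1 h1))) fun _ hx => hN hx
  refine ⟨g, g.2, h1, fun h => h2 ?_⟩
  rw [cj_sub]
  exact fun _ hx => h hx

/-- the normaliser in `G` of a non-trivial normal subgroup of `H` is `H` -/
theorem mem_of_norm {N : Subgroup Γ} (h0 : N ≠ ⊥) (hN : N ≤ H) (hn : ∀ a ∈ H, ∀ x ∈ N, a * x * a⁻¹ ∈ N) {g : Γ}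
    (hg : g ∈ G) (h : ∀ x ∈ N, g * x * g⁻¹ ∈ N) : g ∈ H := by
  have h1 := c.max (M := G ⊓ Subgroup.normalizer (N : Set Γ)) (le_inf c.le (le_normalizer_of_conj hn)) inf_le_left
    fun h2 => by
      obtain ⟨a, ha, -, h3⟩ := c.exists_not_le h0 hN
      refine h3 fun x hx => mem_cj.2 (hN ?_)
      simpa using (Subgroup.mem_normalizer_iff.1 (h2 (inv_mem ha)).2 x).1 hx
  rw [← h1]
  refine ⟨hg, Subgroup.mem_normalizer_fintype fun x hx => h x hx⟩

/-- the exponent of an abelian normal subgroup of `H` divides `d` -/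
theorem orderOf_dvd_d {N : Subgroup Γ} (hN : N ≤ H) (hn : ∀ a ∈ H, ∀ x ∈ N, a * x * a⁻¹ ∈ N)
    (hc : ∀ a ∈ N, ∀ b ∈ N, a * b = b * a) {x : Γ} (hx : x ∈ N) : orderOf x ∣ Nat.card H / m := by
  have h1 := c.half.orderOf_dvd_d (N := N.subgroupOf G) (fun _ hx => hN hx)
    (le_normalizer_of_conj fun a ha x hx => hn a ha x hx) (fun a ha b hb => Subtype.ext (hc a ha b hb))
    (x := ⟨x, c.le (hN hx)⟩) hx
  rwa [c.card_H, Subgroup.orderOf_mk] at h1

/-- **product trick** : `L` has index at most `j` in `H ⊓ g H g⁻¹` and fixes `g₁ H ≠ H` and `g₂ H`; then the orbit of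
`g₂ H` under the stabiliser of `H` and `g₁ H` has at most `j` points -/
theorem product {L : Subgroup Γ} {g₁ g₂ g : Γ} {j : ℕ} (h₁ : g₁ ∈ G) (hg₁ : g₁ ∉ H) (h : g ∈ G) (hg : g ∉ H)
    (h0 : L ≤ H ⊓ cj g H) (h1 : L ≤ cj g₁ H) (h2 : L ≤ cj g₂ H) (hj : L.relIndex (H ⊓ cj g H) ≤ j) :
    (cj g₂ H).relIndex (H ⊓ cj g₁ H) ≤ j := by
  have e1 : L.relIndex (H ⊓ cj g H) * Nat.card L = m := by
    rw [← c.card_inf h hg, ← card_sub h0]
    exact Subgroup.index_mul_card _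
  have e2 : (cj g₂ H).relIndex (H ⊓ cj g₁ H) * Nat.card ((cj g₂ H).subgroupOf (H ⊓ cj g₁ H)) = m := by
    rw [← c.card_inf h₁ hg₁]
    exact Subgroup.index_mul_card _
  have h3 : L ≤ H ⊓ cj g₁ H := le_inf (h0.trans inf_le_left) h1
  have e3 : Nat.card L ≤ Nat.card ((cj g₂ H).subgroupOf (H ⊓ cj g₁ H)) := by
    rw [← card_sub h3]
    exact Subgroup.card_le_of_le fun _ hx => h2 hx
  have e4 : 0 < Nat.card L := Nat.card_pos
  refine Nat.le_of_mul_le_mul_right ?_ e4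
  calc _ ≤ (cj g₂ H).relIndex (H ⊓ cj g₁ H) * Nat.card ((cj g₂ H).subgroupOf (H ⊓ cj g₁ H)) :=
        Nat.mul_le_mul_left _ e3
    _ = L.relIndex (H ⊓ cj g H) * Nat.card L := by rw [e1, e2]
    _ ≤ _ := Nat.mul_le_mul_right _ hj

end In

end Cfsg.Agent.TH
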