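import Cfsg.Agent.TH.BN
import Cfsg.Agent.TH.Uni
import Cfsg.Agent.TH.Cl.Defs
import Cfsg.Agent.DS.Gen.Split

/-!
# S3541: the abstract trichotomy for the point stabiliser (captain helper73)

`H ⊓ T` contains an elementary abelian minimal normal subgroup of `H` (`DS.Loc`), or its generalised Fitting subgroup is
simple (`Sim`), or a product of at least two simple groups (`Mul`).
-/

set_option autoImplicit false

namespace Cfsg.Agent.TH

/-- `𝓢` is an `H`-invariant set of at least two commuting simple subgroups of `H ⊓ T` with trivial centraliser in `T` -/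
structure Mul {G : Type*} [Group G] (T H : Subgroup G) (𝓢 : Set (Subgroup G)) : Prop where
  le : ∀ S ∈ 𝓢, S ≤ H ⊓ T
  simple : ∀ S ∈ 𝓢, IsSimpleGroup S
  nonab : ∀ S ∈ 𝓢, ¬ IsMulCommutative S
  comm : ∀ S ∈ 𝓢, ∀ S' ∈ 𝓢, S ≠ S' → ∀ x ∈ S, ∀ y ∈ S', x * y = y * x
  perm : ∀ h ∈ H, ∀ S ∈ 𝓢, cj h S ∈ 𝓢
  two : 𝓢.Nontrivial
  cent : ∀ t ∈ T, (∀ S ∈ 𝓢, ∀ x ∈ S, t * x = x * t) → t = 1

/-- [TRI] -/
def BoxTri : Prop := ∀ (G : Type) [Group G] [Finite G] (T H : Subgroup G) (m : ℕ), AS T → Half H m →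
  (∃ E r, DS.Loc T H E r) ∨ (∃ N, Sim T H N) ∨ ∃ 𝓢, Mul T H 𝓢

/-- the standing hypotheses after `BoxOwn` and `BoxBN` -/
structure NCtx {G : Type} [Group G] (T H : Subgroup G) (m p : ℕ) : Prop extends LieCtx T H m p where
  allK : AllK
  nown : ¬ HasOwn p H
  nbn : ¬ HasBN p H

/-- families of groups with a characteristic -/
abbrev PFam : Type 1 := ℕ → ∀ (T : Type) [Group T], Prop

/-- no example with socle in the family `P` -/
def NonBN (P : PFam) : Prop :=
  ∀ (G : Type) [Group G] [Finite G] (T H : Subgroup G) (m p : ℕ), NCtx T H m p → P p ↥T → False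

/-- no local example -/
def NoAb (P : PFam) : Prop :=
  ∀ (G : Type) [Group G] [Finite G] (T H E : Subgroup G) (m p r : ℕ), NCtx T H m p → DS.Loc T H E r → r ≠ p → P p ↥T → False

/-- no example with `H ⊓ T` almost simple -/
def NoSi (P : PFam) : Prop :=
  ∀ (G : Type) [Group G] [Finite G] (T H N : Subgroup G) (m p : ℕ), NCtx T H m p → Sim T H N → P p ↥T → False

/-- no example with several simple factors -/
def NoMul (P : PFam) : Prop :=
  ∀ (G : Type) [Group G] [Finite G] (T H : Subgroup G) (𝓢 : Set (Subgroup G)) (m p : ℕ), NCtx T H m p → Mul T H 𝓢 →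
    P p ↥T → False

theorem nonOwn_of_nonBN {P : PFam} (hB : BoxBN) (h : NonBN P) : NonOwn P := fun hK G _ _ T H m p c ho hP =>
  h G T H m p ⟨c, hK, ho, hB hK G T H m p c⟩ hP

/-- the prime of a local example is not the characteristic -/
theorem LieCtx.ne_of_loc {G : Type} [Group G] [Finite G] {T H E : Subgroup G} {m p r : ℕ} (c : LieCtx T H m p)
    (h : DS.Loc T H E r) : r ≠ p := by
  rintro rfl
  have := Fact.mk c.prime
  have h1 : E ≤ H := h.norm ▸ Subgroup.le_normalizer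
  refine h.ne_bot (c.half.eq_bot_of_isPGroup c.dvd_index h1 h.norm.ge fun x => ⟨1, Subtype.ext ?_⟩)
  simpa using h.pow x x.2

theorem nonBN_of {P : PFam} (ht : BoxTri) (h1 : NoAb P) (h2 : NoSi P) (h3 : NoMul P) : NonBN P := by
  intro G _ _ T H m p c hP
  rcases ht G T H m c.as c.half with ⟨E, r, h⟩ | ⟨N, h⟩ | ⟨𝓢, h⟩
  · exact h1 G T H E m p r c h (c.toLieCtx.ne_of_loc h) hP
  · exact h2 G T H N m p c h hP
  · exact h3 G T H 𝓢 m p c h hP

end Cfsg.Agent.TH
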