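import Cfsg.Agent.TH.Own.Defs
import Cfsg.Agent.FixBN.Split

/-!
# S3541: components with a split (B, N)-pair of characteristic `p` (captain helper73)

`BoxBN` is the form of `BoxOwn` which is used for the subsystem subgroups of the exceptional groups.
-/

set_option autoImplicit false

namespace Cfsg.Agent.TH

open Own

/-- `H` has a component whose simple quotient has a split (B, N)-pair of characteristic `p` -/
def HasBN (p : ℕ) {G : Type*} [Group G] (H : Subgroup G) : Prop :=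
  ∃ E : Subgroup ↥H, Cfsg.IsComponent E ∧ FixBN.HasSplit p (↥E ⧸ Subgroup.center ↥E)

/-- [BN] no such component -/
def BoxBN : Prop := AllK →
  ∀ (G : Type) [Group G] [Finite G] (T H : Subgroup G) (m p : ℕ), LieCtx T H m p → HasBN p H → False

/-- [BLD, general form] -/
def BoxBldBN : Prop :=
  ∀ (G : Type) [Group G] [Finite G] (T H : Subgroup G) (m p : ℕ), LieCtx T H m p → HasBN p H →
    ∃ (I ι : Type) (_ : Finite I) (_ : Finite ι) (S : US G p I) (C : Comps S ι), S.toPS.At T ((1 : G) : G ⧸ H) ∧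
      ∀ l, FixBN.HasSplit p (↥(C.E l) ⧸ Subgroup.center ↥(C.E l)) ∧ ¬ p ∣ Nat.card (Zc (C.E l))

/-- [R1ID] a split (B, N)-pair of rank one and characteristic `p` -/
def BoxR1Id : Prop := AllK →
  ∀ (G : Type) [Group G] [Finite G] (p : ℕ) (E U : Subgroup G), p.Prime → Cfsg.IsQuasisimple ↥E →
    FixBN.HasSplit p (↥E ⧸ Subgroup.center ↥E) → ¬ p ∣ Nat.card (Zc E) → U ≤ E → IsPGroup p U →
    (∀ P : Subgroup G, P ≤ E → IsPGroup p P → ∃ R ∈ Cjs E U, P ≤ R) → Spl E U →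
    Cfsg.IsLieTypeChar p (↥E ⧸ Subgroup.center ↥E)

theorem boxBN_of (h1 : BoxAmb) (h2 : BoxBldBN) (h2' : BoxR1Id) (h3 : BoxR1D) (h4 : BoxFold) (h5 : BoxOne) (h6 : BoxTwo)
    (h7 : BoxRk1) : BoxBN := by
  intro hK G _ _ T H m p c ho
  have hA := h1 G T H m p c
  obtain ⟨I, ι, _, _, S, C, hS, hE⟩ := h2 G T H m p c ho
  obtain ⟨I', _, F, κ, hF, hκ⟩ := h4 G (G ⧸ H) T p _ I ι S C c.prime hA.nrm hS
  have hI := h6 G (G ⧸ H) T p m _ I ι I' S C F κ hA hS hF hκ (h5 G (G ⧸ H) T p m _ I' F hA hF)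
  obtain ⟨i, -⟩ := S.endn
  let _ : Unique I := uniqueOfSubsingleton i
  have hι : ∀ l, l = C.c i := fun l => by
    obtain ⟨k, rfl⟩ := C.surj l
    rw [Subsingleton.elim k i]
  have h8 : S.D Set.univ = C.E (C.c i) := by
    rw [C.top]
    exact le_antisymm (iSup_le fun l => by rw [hι l]) (le_iSup C.E _)
  have h9 : ({i} : Set I) = Set.univ := Set.eq_univ_of_forall fun k => Subsingleton.elim k i
  refine h7 G (G ⧸ H) T p m _ I I' S F κ hA hS hF hκ (h8 ▸ C.quasi _) ?_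
  have a1 : S.X ≤ C.E (C.c i) := by rw [← h8, ← S.D_empty]; exact S.mono (Set.empty_subset _)
  have a2 : ∀ P : Subgroup G, P ≤ C.E (C.c i) → IsPGroup p P → ∃ R ∈ Cjs (C.E (C.c i)) S.X, P ≤ R := by
    rw [← h8]; exact S.syl
  have a3 : Spl (C.E (C.c i)) S.X := by rw [← h8, ← h9]; exact S.split i
  have h10 := h3 G p (C.E (C.c i)) S.X c.prime (C.quasi _)
    (h2' hK G p _ S.X c.prime (C.quasi _) (hE _).1 (hE _).2 a1 S.isP a2 a3) (hE _).2 a1 S.isP a2 a3
  rwa [h8]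

end Cfsg.Agent.TH
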