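import Mathlib
import Cfsg.Agent.TH.GenSyl

/-!
# S3541: dihedral point stabilisers in the socle
-/

set_option autoImplicit false
set_option linter.unusedSectionVars false

namespace Cfsg.Agent.TH.Gen

variable {K : Type*} [Group K] [Finite K] {X : Subgroup K} {d : ℕ}

theorem mem_of_pres {σ : MulAut K} (hσ : ∀ x ∈ X, σ x ∈ X) {g : K} (hg : σ g ∈ X) : g ∈ X := by
  let f : X → X := fun x => ⟨σ x, hσ x x.2⟩
  have hf : Function.Injective f := fun a b hab => Subtype.ext (σ.injective (congrArg Subtype.val hab))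
  obtain ⟨x, hx⟩ := Finite.surjective_of_injective hf ⟨σ g, hg⟩
  have h1 : (x : K) = g := σ.injective (congrArg Subtype.val hx)
  exact h1 ▸ x.2

theorem conj_pres {x : K} (hx : x ∈ X) : ∀ y ∈ X, MulAut.conj x y ∈ X := fun _ hy =>
  mul_mem (mul_mem hx hy) (inv_mem hx)

theorem Loc.mem_of_conj (h : Loc X d) {g : K} (hg : ∀ x ∈ X, g * x * g⁻¹ ∈ X) : g ∈ X :=
  h.norm X le_rfl h.ne_bot (fun _ hσ => hσ) (Subgroup.mem_normalizer_fintype hg)

/-- an invariant cyclic subgroup is a trivial intersection subgroup -/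
theorem Loc.ti (h : Loc X d) {c₀ : K} (hc₀ : c₀ ∈ X)
    (hinv : ∀ σ : MulAut K, (∀ x ∈ X, σ x ∈ X) → σ c₀ ∈ Subgroup.zpowers c₀) :
    (∀ c ∈ Subgroup.zpowers c₀, c ≠ 1 → Subgroup.normalizer (Subgroup.zpowers c : Set K) = X) ∧
      ∀ c ∈ Subgroup.zpowers c₀, c ≠ 1 → ∀ g : K, g⁻¹ * c * g ∈ Subgroup.zpowers c₀ → g ∈ X := by
  have h1 : ∀ c ∈ Subgroup.zpowers c₀, ∀ σ : MulAut K, (∀ x ∈ X, σ x ∈ X) → ∀ y ∈ Subgroup.zpowers c,
      σ y ∈ Subgroup.zpowers c := by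
    rintro _ ⟨i, rfl⟩ σ hσ _ ⟨l, rfl⟩
    obtain ⟨j, hj⟩ := hinv σ hσ
    refine ⟨j * l, ?_⟩
    simp only [map_zpow] at hj ⊢
    rw [← hj, ← zpow_mul, ← zpow_mul, ← zpow_mul]
    congr 1
    ring
  have h2 : ∀ c ∈ Subgroup.zpowers c₀, c ≠ 1 → Subgroup.normalizer (Subgroup.zpowers c : Set K) = X :=
    fun c hc hc1 => le_antisymm
      (h.norm _ ((Subgroup.zpowers_le).2 ((Subgroup.zpowers_le).2 hc₀ hc)) (by simpa using hc1) (h1 c hc))
      fun x hx => Subgroup.mem_normalizer_fintype (h1 c hc _ (conj_pres hx))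
  refine ⟨h2, fun c hc hc1 g hg => h.mem_of_conj fun x hx => ?_⟩
  have h3 : g⁻¹ * c * g ≠ 1 := fun h4 => hc1 (by
    have h5 : c = g * (g⁻¹ * c * g) * g⁻¹ := by group
    rw [h5, h4, mul_one, mul_inv_cancel])
  rw [← h2 c hc hc1]
  refine Subgroup.mem_normalizer_fintype ?_
  rintro _ ⟨l, rfl⟩
  obtain ⟨j, hj⟩ := h1 _ hg _ (conj_pres hx) _ (Subgroup.mem_zpowers _)
  refine ⟨j * l, ?_⟩
  have h4 : c ^ j = g * x * g⁻¹ * c * (g * x * g⁻¹)⁻¹ := by
    have h5 : (g⁻¹ * c * g) ^ j = x * (g⁻¹ * c * g) * x⁻¹ := hj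
    have h6 := conj_zpow (a := g⁻¹) (b := c) (i := j)
    rw [inv_inv, h5] at h6
    calc c ^ j = g * (g⁻¹ * c ^ j * g) * g⁻¹ := by group
      _ = _ := by rw [← h6]; group
  show c ^ (j * l) = _
  rw [zpow_mul, h4, conj_zpow]

theorem dihedral_data {k : ℕ} (hk : 3 ≤ k) (e : X ≃* DihedralGroup k) :
    ∃ c₀ ∈ X, orderOf c₀ = k ∧ Nat.card X = 2 * k ∧
      ∀ x ∈ X, x ∉ Subgroup.zpowers c₀ → x * x = 1 ∧ x * c₀ * x⁻¹ = c₀⁻¹ := by
  have : NeZero k := ⟨by omega⟩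
  refine ⟨e.symm (DihedralGroup.r 1), (e.symm _).2, ?_, ?_, fun x hx hx' => ?_⟩
  · rw [Subgroup.orderOf_coe, e.symm.orderOf_eq, DihedralGroup.orderOf_r_one]
  · rw [Nat.card_congr e.toEquiv, DihedralGroup.nat_card]
  · obtain ⟨y, hy⟩ : ∃ y, y = e ⟨x, hx⟩ := ⟨_, rfl⟩
    have h1 : x = e.symm y := by rw [hy, e.symm_apply_apply]
    cases y with
    | r i =>
      exfalso
      apply hx'
      refine ⟨(i.val : ℕ), ?_⟩
      rw [h1]
      show ((e.symm (DihedralGroup.r 1) ^ ((i.val : ℕ) : ℤ) : X) : K) = _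
      rw [← map_zpow, zpow_natCast, DihedralGroup.r_one_pow, ZMod.natCast_zmod_val]
    | sr i =>
      rw [h1]
      constructor
      · show ((e.symm _ * e.symm _ : X) : K) = 1
        rw [← map_mul, DihedralGroup.sr_mul_self, map_one]
        rfl
      · show ((e.symm _ * e.symm _ * (e.symm _)⁻¹ : X) : K) = (((e.symm _)⁻¹ : X) : K)
        rw [← map_inv, ← map_inv, ← map_mul, ← map_mul]
        congr 2
        simp

/-- the inequality for a dihedral stabiliser -/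
theorem Loc.dihedral [IsSimpleGroup K] (h : Loc X d) {k : ℕ} (hk : 3 ≤ k) (e : X ≃* DihedralGroup k)
    (hodd : Odd k → 2 ∣ X.index) (hconj : Even k → ∀ x y : K, orderOf x = 2 → orderOf y = 2 → IsConj x y) {c : ℕ}
    (hc : ∀ t : K, t ≠ 1 → t * t = 1 → Nat.card (Subgroup.centralizer ({t} : Set K)) ≤ c) :
    Nat.card K ≤ k * k * c := by
  obtain ⟨c₀, hc₀, hord, hcard, hrefl⟩ := dihedral_data hk e
  obtain ⟨C, hC⟩ : ∃ C, C = Subgroup.zpowers c₀ := ⟨_, rfl⟩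
  have hCX : C ≤ X := hC ▸ (Subgroup.zpowers_le).2 hc₀
  have hinv : ∀ σ : MulAut K, (∀ x ∈ X, σ x ∈ X) → σ c₀ ∈ Subgroup.zpowers c₀ := fun σ hσ => by
    by_contra h1
    have h2 := (hrefl _ (hσ c₀ hc₀) h1).1
    rw [← map_mul, map_eq_one_iff _ σ.injective, ← pow_two] at h2
    have h3 := Nat.le_of_dvd (by norm_num) (orderOf_dvd_of_pow_eq_one h2)
    omega
  obtain ⟨hN, hti⟩ := h.ti hc₀ hinv
  rw [← hC] at hrefl hN hti
  have hS : ((X : Set K) \ C).ncard = k := by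
    have h1 := Set.ncard_sdiff_add_ncard_of_subset (show (C : Set K) ⊆ X from hCX) (Set.toFinite _)
    have h2 : (C : Set K).ncard = k := by
      rw [← Nat.card_coe_set_eq, hC, SetLike.coe_sort_coe, Nat.card_zpowers, hord]
    have h3 : (X : Set K).ncard = 2 * k := by rw [← Nat.card_coe_set_eq, SetLike.coe_sort_coe, hcard]
    omega
  obtain ⟨t₀, ht₀, ht₀'⟩ : ((X : Set K) \ C).Nonempty := (Set.ncard_pos (Set.toFinite _)).1 (by omega)
  have hne1 : ∀ {g a : K}, a ≠ 1 → g⁻¹ * a * g ≠ 1 := fun {g a} ha h4 => ha (by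
    have h5 : a = g * (g⁻¹ * a * g) * g⁻¹ := by group
    rw [h5, h4, mul_one, mul_inv_cancel])
  have hcent : ∀ z ∈ C, z * z = 1 → ∀ x ∈ X, x * z = z * x := fun z hz hzz x hx => by
    rw [hC] at hz
    obtain ⟨i, rfl⟩ := hz
    by_cases hxC : x ∈ C
    · rw [hC] at hxC
      obtain ⟨j, rfl⟩ := hxC
      exact (Commute.zpow_zpow_self c₀ j i).eq
    · have h1 := (hrefl x hx hxC).2
      have h2 : x * c₀ ^ i * x⁻¹ = (c₀ ^ i)⁻¹ := by rw [← conj_zpow, h1, inv_zpow]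
      rw [inv_eq_of_mul_eq_one_right hzz] at h2
      exact mul_inv_eq_iff_eq_mul.1 h2
  have hcle : ∀ z ∈ C, z ≠ 1 → ∀ a : K, a * z = z * a → a ∈ X := fun z hz hz1 a ha =>
    hti z hz hz1 a (by rwa [mul_assoc, ← ha, inv_mul_cancel_left])
  have hsq : ∀ x ∈ X, x * x ∈ C := fun x hx => by
    by_cases hxC : x ∈ C
    · exact mul_mem hxC hxC
    · rw [(hrefl x hx hxC).1]
      exact one_mem _
  -- the intersections are not trivial
  have hD : ∀ g, g ∉ X → ∃ x ∈ X, x ≠ 1 ∧ g⁻¹ * x * g ∈ X := fun g hg => by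
    by_contra hcon
    obtain ⟨a, ha, ha'⟩ := h.sub_dvd g hg
    have h1 : X ⊓ cj g X = ⊥ := by
      rw [eq_bot_iff]
      intro x hx
      by_contra hx1
      exact hcon ⟨x, hx.1, hx1, mem_cj.1 hx.2⟩
    rw [h1, Subgroup.card_bot, mul_one, hcard] at ha'
    rw [ha'] at ha
    rcases Nat.even_or_odd k with hev | hod
    · obtain ⟨l, hl⟩ := hev
      obtain ⟨z, hz⟩ : ∃ z, z = c₀ ^ l := ⟨_, rfl⟩
      have hzC : z ∈ C := by
        rw [hC, hz]
        exact Subgroup.npow_mem_zpowers _ _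
      have hzz : z * z = 1 := by rw [hz, ← pow_add, ← hl, ← hord, pow_orderOf_eq_one]
      have hz1 : z ≠ 1 := fun h2 => by
        rw [hz] at h2
        have h3 := Nat.le_of_dvd (by omega) (orderOf_dvd_of_pow_eq_one h2)
        omega
      have ho : ∀ t : K, t ≠ 1 → t * t = 1 → orderOf t = 2 := fun t ht htt =>
        orderOf_eq_prime (by rwa [pow_two]) ht
      let φ : K ⧸ X → K := fun β => β.out * z * β.out⁻¹
      have hφ : ∀ g : K, φ (g : K ⧸ X) = g * z * g⁻¹ := fun g => by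
        obtain ⟨x, hx⟩ := QuotientGroup.mk_out_eq_mul X g
        show (g : K ⧸ X).out * z * (g : K ⧸ X).out⁻¹ = _
        rw [hx, mul_assoc g, hcent z hzC hzz x x.2]
        group
      have h2 := h.inv_dvd {β | β ≠ ((1 : K) : K ⧸ X) ∧ φ β ∈ X} (fun h3 => h3.1 rfl) (by
        rintro σ hσ g ⟨h3, h4⟩
        have h5 : σ z = z := by
          have h6 : σ z ∈ Subgroup.zpowers z := by
            obtain ⟨j, hj⟩ := hinv σ hσ
            refine ⟨j, ?_⟩
            simp only [hz, map_pow] at hj ⊢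
            rw [← hj, ← zpow_natCast, ← zpow_natCast, ← zpow_mul, ← zpow_mul, mul_comm]
          obtain ⟨j, hj⟩ := h6
          have hj' : z ^ j = σ z := hj
          rcases Int.even_or_odd' j with ⟨i, rfl | rfl⟩
          · rw [zpow_mul, zpow_two, hzz, one_zpow, eq_comm, map_eq_one_iff _ σ.injective] at hj'
            exact absurd hj' hz1
          · rw [zpow_add, zpow_mul, zpow_two, hzz, one_zpow, one_mul, zpow_one] at hj'
            exact hj'.symm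
        refine ⟨mk_ne_one.2 fun h6 => mk_ne_one.1 h3 (mem_of_pres hσ h6), ?_⟩
        rw [hφ] at h4 ⊢
        have h6 := hσ _ h4
        rwa [map_mul, map_mul, map_inv, h5] at h6)
      have h3 : {β | β ≠ ((1 : K) : K ⧸ X) ∧ φ β ∈ X}.ncard ≤ k := by
        rw [← hS]
        refine Set.ncard_le_ncard_of_injOn φ ?_ ?_ (Set.toFinite _)
        · rintro β ⟨h4, h5⟩
          refine ⟨h5, fun h6 => ?_⟩
          induction β using QuotientGroup.induction_on with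
          | _ a =>
          rw [hφ] at h6
          exact mk_ne_one.1 h4 (inv_mem_iff.1 (hti z hzC hz1 a⁻¹ (by rwa [inv_inv])))
        · intro β _ γ _ h4
          induction β using QuotientGroup.induction_on with
          | _ a =>
          induction γ using QuotientGroup.induction_on with
          | _ b =>
          rw [hφ, hφ] at h4
          rw [QuotientGroup.eq]
          refine hcle z hzC hz1 _ ?_
          calc a⁻¹ * b * z = a⁻¹ * (b * z * b⁻¹) * b := by group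
            _ = z * (a⁻¹ * b) := by rw [← h4]; group
      have h4 : {β | β ≠ ((1 : K) : K ⧸ X) ∧ φ β ∈ X}.Nonempty := by
        have ht1 : t₀ ≠ 1 := fun h5 => ht₀' (h5 ▸ C.one_mem)
        obtain ⟨b, hb⟩ := isConj_iff.1 (hconj ⟨l, hl⟩ z t₀ (ho z hz1 hzz) (ho t₀ ht1 (hrefl t₀ ht₀ ht₀').1))
        refine ⟨b, mk_ne_one.2 fun h5 => ht₀' ?_, by rw [hφ, hb]; exact ht₀⟩
        rw [← hb, hcent z hzC hzz b h5, mul_inv_cancel_right]
        exact hzC
      have h5 := Nat.le_of_dvd ((Set.ncard_pos (Set.toFinite _)).2 h4) (ha.trans h2)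
      omega
    · exact h.not_dvd Nat.prime_two (hodd hod) ((Dvd.intro _ rfl).trans ha)
  have hP : ∀ g, g ∉ X → ∀ x ∈ C, x ≠ 1 → x * x = 1 → g⁻¹ * x * g ∈ X →
      ∃ t ∈ (X : Set K) \ C, g⁻¹ * t * g ∈ (X : Set K) \ C := fun g hg x hx hx1 hxx hx' => by
    have h1 := hcent x hx hxx _ hx'
    have h2 : g * x * g⁻¹ ∈ X := hcle x hx hx1 _ (by
      calc g * x * g⁻¹ * x = g * (x * (g⁻¹ * x * g)) * g⁻¹ := by group
        _ = x * (g * x * g⁻¹) := by rw [← h1]; group)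
    refine ⟨x * (g * x * g⁻¹), ⟨X.mul_mem (hCX hx) h2, fun h3 => ?_⟩, ?_⟩
    · exact hg (inv_mem_iff.1 (hti x hx hx1 g⁻¹ (by rw [inv_inv]; exact (C.mul_mem_cancel_left hx).1 h3)))
    · have h3 : g⁻¹ * (x * (g * x * g⁻¹)) * g = g⁻¹ * x * g * x := by group
      rw [h3]
      exact ⟨X.mul_mem hx' (hCX hx), fun h4 => hg (hti x hx hx1 g ((C.mul_mem_cancel_right hx).1 h4))⟩
  have h1 := pair_count Set.univ ((X : Set K) \ C) ((X : Set K) \ C) (c := c)
    (fun t ht => hc t (fun h2 => ht.2 (h2 ▸ C.one_mem)) (hrefl t ht.1 ht.2).1) ?_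
  · rwa [Set.ncard_univ, hS] at h1
  intro g _
  by_cases hg : g ∈ X
  · refine ⟨t₀, ⟨ht₀, ht₀'⟩, X.mul_mem (X.mul_mem (X.inv_mem hg) ht₀) hg, fun h2 => ht₀' ?_⟩
    have h3 : t₀ = MulAut.conj g (g⁻¹ * t₀ * g) := by simp [mul_assoc]
    rw [h3]
    rw [hC] at h2 ⊢
    obtain ⟨i, hi⟩ := h2
    rw [← hi, map_zpow]
    exact zpow_mem (hinv _ (conj_pres hg)) i
  obtain ⟨x, hx, hx1, hx'⟩ := hD g hg
  have hxx : x * x = 1 := by
    by_contra h2
    refine hg (hti _ (hsq x hx) h2 g ?_)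
    have h3 : g⁻¹ * (x * x) * g = g⁻¹ * x * g * (g⁻¹ * x * g) := by group
    rw [h3]
    exact hsq _ hx'
  by_cases hxC : x ∈ C
  · exact hP g hg x hxC hx1 hxx hx'
  by_cases hxC' : g⁻¹ * x * g ∈ C
  · obtain ⟨t, ht, ht'⟩ := hP g⁻¹ (fun h2 => hg (inv_mem_iff.1 h2)) _ hxC' (hne1 hx1) (by
      have h3 : g⁻¹ * x * g * (g⁻¹ * x * g) = g⁻¹ * (x * x) * g := by group
      rw [h3, hxx, mul_one, inv_mul_cancel]) (by simpa [mul_assoc] using hx)
    exact ⟨_, ht', by simpa [mul_assoc] using ht⟩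
  · exact ⟨x, ⟨hx, hxC⟩, hx', hxC'⟩

end Cfsg.Agent.TH.Gen
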