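import Mathlib
import Cfsg.Agent.TH.GenSyl
import Cfsg.Agent.ClassicalGeometry.PoleBridge
import Cfsg.Agent.ClassicalGeometry.PoleCases
import Cfsg.Agent.ClassicalGeometry.PolePrime
import Cfsg.Agent.ClassicalGeometry.PSL2Basic
import Cfsg.Agent.ClassicalGeometry.SLTwoFour
import Cfsg.Agent.S2475

/-!
# S3541, socle `PSL₂(q)`: the facts on `PSL₂(q)` which are used
-/

set_option autoImplicit false
set_option linter.unusedSectionVars false

namespace Cfsg.Agent.TH.Psl

open Cfsg.Agent.ClassicalGeometry Cfsg.Agent.ClassicalGeometry.PoleCount Cfsg.Agent.TH.Gen MulAction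

/-- the facts on `K ≅ PSL₂(q)`, `δ = gcd (2, q - 1)` -/
structure Data (K : Type*) [Group K] (p q δ : ℕ) (L Ω : Type*) [Field L] [MulAction K Ω] : Prop where
  pole : Pole p L K Ω
  card : Nat.card K * δ = q * (q ^ 2 - 1)
  dl : (p = 2 ∧ δ = 1) ∨ (p ≠ 2 ∧ δ = 2)
  four : 4 ≤ q
  pw : ∃ f, q = p ^ f
  spec : ∀ k, (∃ g : K, orderOf g = k) ↔ k ∣ p ∨ k ∣ (q - 1) / δ ∨ k ∣ (q + 1) / δ
  conj : p ≠ 2 → ∀ x y : K, orderOf x = 2 → orderOf y = 2 → IsConj x y

theorem exists_data {K : Type*} [Group K] {F : Type} [Field F] [Fintype F] (p : ℕ) [hp : Fact p.Prime] [CharP F p]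
    (h4 : 4 ≤ Fintype.card F) (e : K ≃* Matrix.ProjectiveSpecialLinearGroup (Fin 2) F) :
    ∃ (L Ω : Type) (_ : Field L) (_ : CharP L p) (_ : MulAction K Ω),
      Data K p (Fintype.card F) (Nat.gcd 2 (Fintype.card F - 1)) L Ω := by
  classical
  let L := AlgebraicClosure F
  have : CharP L p := charP_of_injective_algebraMap (algebraMap F L).injective p
  let φ : K →* Matrix.ProjectiveSpecialLinearGroup (Fin 2) L := (PSL2Basic.pslMap (algebraMap F L)).comp e.toMonoidHom
  have hφ : Function.Injective φ := (PSL2Basic.pslMap_injective _).comp e.injective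
  obtain ⟨n, -, hn⟩ := FiniteField.card F p
  have hodd : p ≠ 2 → Odd (Fintype.card F) := fun h => hn ▸ (hp.1.odd_of_ne_two h).pow
  let _ := PoleBridge.act φ
  refine ⟨L, OnePoint L, inferInstance, inferInstance, PoleBridge.act φ, PoleBridge.pole_of_injective p φ hφ, ?_, ?_, h4,
    ⟨n, hn⟩, fun k => ?_, fun h x y hx hy => ?_⟩
  · rw [Nat.card_congr e.toEquiv]
    exact PSL2Basic.card_PSL2_gcd F
  · by_cases h : p = 2
    · left
      refine ⟨h, ?_⟩
      have h1 : 2 ∣ Fintype.card F := by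
        rw [hn, h]
        exact dvd_pow_self 2 n.ne_zero
      rw [← Nat.coprime_iff_gcd_eq_one, Nat.coprime_two_left, Nat.odd_iff]
      omega
    · right
      obtain ⟨k, hk⟩ := hodd h
      exact ⟨h, Nat.gcd_eq_left (by omega)⟩
  · have h1 := S2475.result (F := F) p h4
    refine Iff.trans ?_ (Set.ext_iff.1 h1 k)
    constructor
    · rintro ⟨g, rfl⟩
      exact ⟨e g, e.orderOf_eq g⟩
    · rintro ⟨g, rfl⟩
      exact ⟨e.symm g, e.symm.orderOf_eq g⟩
  · have h1 := SLTwoFour.psl_isConj (hodd h) (e x) (e y) (by rw [e.orderOf_eq, hx]) (by rw [e.orderOf_eq, hy])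
    have h2 := e.symm.toMonoidHom.map_isConj h1
    simpa using h2

variable {K : Type*} [Group K] [Finite K] {p q δ : ℕ} {L Ω : Type*} [Field L] [MulAction K Ω] [hp : Fact p.Prime]
  [CharP L p]

namespace Data

variable (D : Data K p q δ L Ω)

include D

theorem δ_pos : 0 < δ := by rcases D.dl with h | h <;> omega

theorem card_dvd : Nat.card K ∣ q * (q ^ 2 - 1) := D.card ▸ Dvd.intro _ rfl

theorem p_dvd : p ∣ q := by
  obtain ⟨f, hf⟩ := D.pw
  have h4 := D.four
  rw [hf] at h4 ⊢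
  refine dvd_pow_self p fun h => ?_
  rw [h, pow_zero] at h4
  omega

theorem coprime : Nat.Coprime p (q ^ 2 - 1) := by
  rw [hp.1.coprime_iff_not_dvd]
  intro h
  have h4 := D.four
  have h1 : 1 ≤ q ^ 2 := Nat.one_le_pow _ _ (by omega)
  have h2 := Nat.dvd_sub (D.p_dvd.trans (dvd_pow_self q two_ne_zero)) h
  rw [Nat.sub_sub_self h1] at h2
  exact hp.1.one_lt.ne' (Nat.dvd_one.1 h2)

theorem pow_dvd {j : ℕ} (h : p ^ j ∣ Nat.card K) : p ^ j ∣ q :=
  (D.coprime.pow_left j).dvd_of_dvd_mul_right (h.trans D.card_dvd)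

theorem pow_p {u : K} {k : ℕ} (h : u ^ p ^ k = 1) : u ^ p = 1 := by
  by_contra h1
  obtain ⟨a, b, -, ha⟩ := D.pole.two u h1
  exact h1 (D.pole.mem_E_of_pow ((ha a).2 (Or.inl rfl)) h).2

/-- centralisers of unipotent elements -/
theorem cent_p {u : K} (hu : u ≠ 1) {k : ℕ} (h : u ^ p ^ k = 1) :
    Nat.card (Subgroup.centralizer ({u} : Set K)) ≤ q := by
  have h1 := D.pow_p h
  obtain ⟨a, ha⟩ := D.pole.one u hu h1
  have h2 : u ∈ D.pole.E a := ⟨(ha a).2 rfl, h1⟩
  have h3 : Subgroup.centralizer ({u} : Set K) ≤ D.pole.E a := fun c hc => by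
    rw [Subgroup.mem_centralizer_singleton_iff] at hc
    exact D.pole.mem_E_of_commute h2 hu (D.pole.fix_of_commute h2 hu hc) hc
  obtain ⟨j, hj⟩ := IsPGroup.iff_card.1 (D.pole.isPGroup_E a)
  have h4 := D.four
  refine (Subgroup.card_le_of_le h3).trans (Nat.le_of_dvd (by omega) ?_)
  rw [hj]
  exact D.pow_dvd (hj ▸ Subgroup.card_subgroup_dvd_card _)

theorem order_le {g : K} (h : ¬ p ∣ orderOf g) : orderOf g * δ ≤ q + 1 := by
  have h4 := D.four
  have h5 : ∀ a b : ℕ, a ∣ b / δ → 2 ≤ b → a * δ ≤ b := fun a b hab hb => by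
    rw [← Nat.le_div_iff_mul_le D.δ_pos]
    refine Nat.le_of_dvd (Nat.div_pos ?_ D.δ_pos) hab
    rcases D.dl with h | h <;> omega
  rcases (D.spec _).1 ⟨g, rfl⟩ with h1 | h1 | h1
  · rcases (Nat.dvd_prime hp.1).1 h1 with h2 | h2
    · rw [h2]
      rcases D.dl with h | h <;> omega
    · exact absurd (h2 ▸ dvd_rfl) h
  · have := h5 _ _ h1 (by omega)
    omega
  · exact h5 _ _ h1 (by omega)

theorem card_two {a b : Ω} (hab : a ≠ b) : Nat.card ↥(stabilizer K a ⊓ stabilizer K b) * δ ≤ q + 1 := by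
  have h0 : ∀ g : ↥(stabilizer K a ⊓ stabilizer K b), g ^ p = 1 → g = 1 := fun g hg => by
    by_contra hne
    exact hab (D.pole.eq_of_fix (g := g) ⟨g.2.1, congrArg Subtype.val hg⟩ (fun h => hne (Subtype.ext h)) g.2.2).symm
  obtain ⟨χ, hχ⟩ := D.pole.chi a
  have h1 : IsCyclic ↥(stabilizer K a ⊓ stabilizer K b) := by
    refine isCyclic_of_injective_ringHom (((Units.coeHom L).comp χ).comp (Subgroup.inclusion inf_le_left)) ?_
    rw [injective_iff_map_eq_one]
    intro g hg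
    have h2 : χ (Subgroup.inclusion inf_le_left g) = 1 := Units.ext hg
    rw [hχ] at h2
    exact h0 g (Subtype.ext (congrArg (fun z : stabilizer K a => (z : K)) h2))
  obtain ⟨g, hg⟩ := h1.exists_generator
  have h2 := orderOf_eq_card_of_forall_mem_zpowers hg
  rw [← h2, ← Subgroup.orderOf_coe]
  refine D.order_le fun h => ?_
  rw [Subgroup.orderOf_coe, h2] at h
  obtain ⟨u, hu⟩ := exists_prime_orderOf_dvd_card' p h
  have h3 := h0 u (hu ▸ pow_orderOf_eq_one u)
  rw [h3, orderOf_one] at hu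
  exact hp.1.one_lt.ne hu

theorem cent_smul {g c : K} {a b : Ω} (h : ∀ x, g • x = x ↔ x = a ∨ x = b)
    (hc : c ∈ Subgroup.centralizer ({g} : Set K)) {x : Ω} (hx : x = a ∨ x = b) : c • x = a ∨ c • x = b := by
  rw [Subgroup.mem_centralizer_singleton_iff] at hc
  rw [← h, ← mul_smul, ← hc, mul_smul, (h x).2 hx]

omit D in
theorem fix_other {c : K} {a b : Ω} (hab : a ≠ b) (h : ∀ x, x = a ∨ x = b → c • x = a ∨ c • x = b)
    (ha : c • a = a) : c • b = b :=
  (h b (Or.inr rfl)).resolve_left fun h1 => hab (smul_left_cancel c (ha.trans h1.symm))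

/-- centralisers of semisimple elements -/
theorem cent_two {g : K} (h : g ^ p ≠ 1) : Nat.card (Subgroup.centralizer ({g} : Set K)) * δ ≤ 2 * (q + 1) := by
  obtain ⟨a, b, hab, hfix⟩ := D.pole.two g h
  rw [← card_orbit_mul (L := Subgroup.centralizer ({g} : Set K)) a, mul_assoc]
  refine Nat.mul_le_mul ?_ (le_trans (Nat.mul_le_mul_right _ ?_) (D.card_two hab))
  · rw [Nat.card_coe_set_eq, ← Set.ncard_pair hab]
    refine Set.ncard_le_ncard ?_ (Set.toFinite _)
    rintro _ ⟨c, rfl⟩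
    exact D.cent_smul hfix c.2 (Or.inl rfl)
  · exact Nat.card_le_card_of_injective (fun c => ⟨c.1.1, c.2,
      fix_other hab (fun x hx => D.cent_smul hfix c.1.2 hx) c.2⟩)
      fun c c' hc => Subtype.ext (Subtype.ext (congrArg (fun z : ↥(stabilizer K a ⊓ stabilizer K b) => (z : K)) hc))

theorem sq_of_swap {c : K} {a b : Ω} (hab : a ≠ b) (ha : c • a = b) (hb : c • b = a) : c * c = 1 := by
  have h1 : ∃ x : Ω, c • x = x := by
    by_cases h2 : c ^ p = 1
    · obtain ⟨x, hx⟩ := D.pole.one c (by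
        rintro rfl
        rw [one_smul] at ha
        exact hab ha) h2
      exact ⟨x, (hx x).2 rfl⟩
    · obtain ⟨x, y, -, hx⟩ := D.pole.two c h2
      exact ⟨x, (hx x).2 (Or.inl rfl)⟩
  obtain ⟨x, hx⟩ := h1
  refine D.pole.eq_one_of_three (a := a) (b := b) (c := x) hab ?_ ?_ ?_ ?_ ?_
  · rintro rfl
    exact hab (hx.symm.trans ha)
  · rintro rfl
    exact hab (hb.symm.trans hx)
  · rw [mul_smul, ha, hb]
  · rw [mul_smul, hb, ha]
  · rw [mul_smul, hx, hx]

theorem cent_odd {g : K} (h : g ^ p ≠ 1) (h2 : g * g ≠ 1) :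
    Nat.card (Subgroup.centralizer ({g} : Set K)) * δ ≤ q + 1 := by
  obtain ⟨a, b, hab, hfix⟩ := D.pole.two g h
  refine le_trans (Nat.mul_le_mul_right _ (Subgroup.card_le_of_le fun c hc => ?_)) (D.card_two hab)
  have h3 : c • a = a := by
    by_contra h4
    have h5 := (D.cent_smul hfix hc (Or.inl rfl)).resolve_left h4
    have h6 := (D.cent_smul hfix hc (Or.inr rfl)).resolve_right fun h7 =>
      hab (smul_left_cancel c (h5.trans h7.symm))
    have h7 := D.sq_of_swap hab h5 h6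
    have h8 := D.sq_of_swap (c := c * g) hab (by rw [mul_smul, (hfix a).2 (Or.inl rfl), h5])
      (by rw [mul_smul, (hfix b).2 (Or.inr rfl), h6])
    rw [Subgroup.mem_centralizer_singleton_iff] at hc
    apply h2
    calc g * g = c * c * (g * g) := by rw [h7, one_mul]
      _ = c * (c * g) * g := by group
      _ = c * (g * c) * g := by rw [← hc]
      _ = c * g * (c * g) := by group
      _ = 1 := h8
  exact ⟨h3, fix_other hab (fun x hx => D.cent_smul hfix hc hx) h3⟩

end Data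

end Cfsg.Agent.TH.Psl
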