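import Mathlib
import Cfsg.Agent.TH.PslData
import Cfsg.Agent.TH.GenDih
import Cfsg.Agent.S0813
import Cfsg.Agent.LieClassical.FieldTransfer

/-!
# S3541, socle `PSL₂(q)`
-/

set_option autoImplicit false
set_option linter.unusedSectionVars false

namespace Cfsg.Agent.TH.Psl

open Cfsg.Agent.ClassicalGeometry Cfsg.Agent.ClassicalGeometry.PoleCount Cfsg.Agent.TH.Gen MulAction

theorem two_mul_le {p a f : ℕ} (hp : 2 ≤ p) (ha : 1 ≤ a) (haf : a < f) (h : p ^ a + 1 ∣ (p ^ f) ^ 2 - 1) :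
    2 * a ≤ f := by
  have h1 : p ^ a + 1 ∣ p ^ (a * 2) - 1 := by
    rw [pow_mul]
    exact ⟨p ^ a - 1, by simpa using Nat.sq_sub_sq (p ^ a) 1⟩
  rw [← pow_mul] at h
  have h2 := Nat.dvd_gcd h h1
  rw [Nat.pow_sub_one_gcd_pow_sub_one, Nat.gcd_mul_right] at h2
  obtain ⟨g, hg⟩ : ∃ g, g = Nat.gcd f a := ⟨_, rfl⟩
  rw [← hg] at h2
  have h3 : 0 < g := hg ▸ Nat.gcd_pos_of_pos_right _ ha
  obtain ⟨u, hu⟩ : g ∣ a := hg ▸ Nat.gcd_dvd_right _ _
  obtain ⟨v, hv⟩ : g ∣ f := hg ▸ Nat.gcd_dvd_left _ _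
  have h4 : 1 < p ^ (g * 2) := Nat.one_lt_pow (by omega) hp
  have h5 := Nat.le_of_dvd (by omega) h2
  have h6 : a < g * 2 := by
    by_contra h7
    have h8 : p ^ (g * 2) ≤ p ^ a := Nat.pow_le_pow_right (by omega) (by omega)
    omega
  have h7 : u = 1 := by
    have h8 : u < 2 := by
      rw [hu] at h6
      exact Nat.lt_of_mul_lt_mul_left h6
    have h9 : u ≠ 0 := by
      rintro rfl
      omega
    omega
  rw [h7, mul_one] at hu
  rw [← hu] at hv
  have h8 : 1 < v := by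
    rw [hv] at haf
    by_contra h9
    have : a * v ≤ a * 1 := Nat.mul_le_mul_left _ (by omega)
    omega
  rw [hv, mul_comm a v]
  exact Nat.mul_le_mul_right _ h8

theorem no_six {n d : ℕ} (h1 : d ∣ n - 1) (h2 : 1 < d) (h3 : d < n - 1) (hn : (n - 1).Prime) : False := by
  rcases (Nat.dvd_prime hn).1 h1 with h | h <;> omega

variable {K : Type*} [Group K] [Finite K] {p q δ : ℕ} {L Ω : Type*} [Field L] [MulAction K Ω] [hp : Fact p.Prime]
  [CharP L p] {X : Subgroup K} {d : ℕ}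

/-- the case `p ∣ |X|` -/
theorem wild [IsSimpleGroup K] (D : Data K p q δ L Ω) (h : Loc X d) (hn : p ∣ X.index) (hX : p ∣ Nat.card X) :
    p = 2 ∧ 8 ≤ q ∧ X.index * 2 = q * (q - 1) := by
  have hg := h.good_of_index hn
  have P := PoleCases.restrict D.pole X
  have h4 := D.four
  obtain ⟨u, hu⟩ := exists_prime_orderOf_dvd_card' p hX
  have hup : u ^ p = 1 := hu ▸ pow_orderOf_eq_one u
  have hu1 : u ≠ 1 := by
    rintro rfl
    rw [orderOf_one] at hu
    exact hp.1.one_lt.ne hu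
  obtain ⟨x₀, hx₀⟩ := P.one u hu1 hup
  have hx : x₀ ∈ Pole.Op p X Ω := ⟨u, hu1, hup, (hx₀ x₀).2 rfl⟩
  have hnorm : stabilizer X x₀ ≤ Subgroup.normalizer (P.E x₀ : Set X) := fun g hg =>
    Subgroup.mem_normalizer_fintype fun a ha => ⟨by
      have h1 : g • x₀ = x₀ := hg
      rw [mul_smul, mul_smul, inv_smul_eq_iff.2 h1.symm, ha.1, h1], by
      rw [conj_pow, ha.2, mul_one, mul_inv_cancel]⟩
  have hs : (Pole.Op p X Ω).ncard = (stabilizer X x₀).index := by
    rw [P.Op_eq_orbit hx, index_stabilizer]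
  have h2 : 2 ≤ (Pole.Op p X Ω).ncard := by
    by_contra h3
    have h5 : (stabilizer X x₀).index ≠ 0 := Subgroup.index_ne_zero_of_finite
    have h6 : stabilizer X x₀ = ⊤ := Subgroup.index_eq_one.1 (by omega)
    rw [h6, top_le_iff, Subgroup.normalizer_eq_top_iff] at hnorm
    have h7 := hg.eq_bot h.ne_top (P.isPGroup_E x₀)
    have h8 : u ∈ P.E x₀ := ⟨(hx₀ x₀).2 rfl, hup⟩
    rw [h7] at h8
    exact hu1 h8
  obtain ⟨R, hR⟩ := P.exists_sylow hx
  have hs' : Nat.card (Sylow p X) ≤ (Pole.Op p X Ω).ncard := by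
    rw [hs, R.card_eq_index_normalizer]
    refine Subgroup.index_antitone ?_
    rw [← Sylow.coe_coe, hR]
    exact hnorm
  have h3 := hg.card_le hX R (c := q) fun v _ hv ⟨k, hk⟩ => D.cent_p hv hk
  rw [hR] at h3
  obtain ⟨s, hsdef⟩ : ∃ s, s = (Pole.Op p X Ω).ncard := ⟨_, rfl⟩
  obtain ⟨r, hr⟩ : ∃ r, r = Nat.card (P.E x₀) := ⟨_, rfl⟩
  have h5 : q ^ 2 - 1 ≤ s * (s * (r - 1)) * δ := by
    refine Nat.le_of_mul_le_mul_left ?_ (show 0 < q by omega)
    rw [← D.card]
    calc Nat.card K * δ ≤ s * (s * (r - 1)) * q * δ := Nat.mul_le_mul_right _ (h3.trans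
          (Nat.mul_le_mul_right _ (Nat.mul_le_mul (hsdef ▸ hs') (hr ▸ Nat.mul_le_mul_right _ (hsdef ▸ hs')))))
      _ = _ := by ring
  have hcard := X.card_mul_index
  have hK := D.card
  obtain ⟨y, hy, -, h6⟩ := PoleWild.numbers P hx h2
  rw [← hsdef, ← hr] at h6
  rcases h6 with h6 | ⟨h6, h7, h8⟩ | ⟨h6, h7, h8, -⟩
  · exfalso
    obtain ⟨a, ha⟩ := IsPGroup.iff_card.1 (P.isPGroup_E x₀)
    obtain ⟨f, hf⟩ := D.pw
    have h7 := PoleWild.two_le_card_E P hx
    rw [← hr] at ha h7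
    have ha1 : 1 ≤ a := by
      by_contra h8
      rw [show a = 0 by omega, pow_zero] at ha
      omega
    have h8 : p ^ (a + 1) ∣ q := D.pow_dvd (by
      rw [← hcard, pow_succ]
      exact Nat.mul_dvd_mul (ha ▸ hr ▸ Subgroup.card_subgroup_dvd_card _) hn)
    rw [hf, Nat.pow_dvd_pow_iff_le_right hp.1.one_lt] at h8
    have h9 : p ^ a + 1 ∣ q * (q ^ 2 - 1) := by
      rw [← ha, ← h6, hsdef, hs]
      exact (Subgroup.index_dvd_card _).trans (X.card_subgroup_dvd_card.trans D.card_dvd)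
    have h10 : Nat.Coprime (p ^ a + 1) q := by
      rw [hf]
      refine Nat.Coprime.pow_right _ (Nat.Coprime.symm ?_)
      rw [hp.1.coprime_iff_not_dvd]
      intro h11
      exact hp.1.one_lt.ne' (Nat.dvd_one.1 ((Nat.dvd_add_right (dvd_pow_self p (by omega))).1 h11))
    have h11 := two_mul_le hp.1.two_le ha1 h8 (hf ▸ h10.dvd_of_dvd_mul_left h9)
    have h12 : r ^ 2 ≤ q := by
      rw [ha, hf, ← pow_mul, mul_comm]
      exact Nat.pow_le_pow_right hp.1.pos h11
    have h13 : r ^ 4 ≤ q ^ 2 := by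
      calc r ^ 4 = (r ^ 2) ^ 2 := by ring
        _ ≤ _ := Nat.pow_le_pow_left h12 2
    obtain ⟨t, rfl⟩ : ∃ t, r = t + 1 := ⟨r - 1, by omega⟩
    rw [h6, Nat.add_sub_cancel] at h5
    rcases D.dl with ⟨-, h14⟩ | ⟨h14, h15⟩
    · rw [h14] at h5
      have h16 : (t + 1) ^ 4 ≤ (t + 1 + 1) * ((t + 1 + 1) * t) * 1 + 1 := by omega
      obtain ⟨w, rfl⟩ : ∃ w, t = w + 1 := ⟨t - 1, by omega⟩
      ring_nf at h16
      omega
    · rw [h15] at h5
      have h16 : (t + 1) ^ 4 ≤ (t + 1 + 1) * ((t + 1 + 1) * t) * 2 + 1 := by omega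
      have h17 : 2 ≤ t := by
        have h18 : 3 ≤ p := by
          have := hp.1.two_le
          omega
        have h19 : p ^ 1 ≤ p ^ a := Nat.pow_le_pow_right hp.1.pos ha1
        rw [pow_one] at h19
        omega
      obtain ⟨w, rfl⟩ : ∃ w, t = w + 2 := ⟨t - 2, by omega⟩
      ring_nf at h16
      omega
  · have hp2 : p = 2 := PoleCases.eq_of_card_E P Nat.prime_two (hr ▸ h6)
    have hδ : δ = 1 := by rcases D.dl with h9 | h9 <;> omega
    rw [h6, hδ] at h5
    simp only [Nat.add_one_sub_one, mul_one] at h5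
    have h9 : q ≤ s := by
      by_contra h10
      have h11 : s * s ≤ (q - 1) * (q - 1) := Nat.mul_le_mul (by omega) (by omega)
      obtain ⟨t, rfl⟩ : ∃ t, q = t + 1 := ⟨q - 1, by omega⟩
      rw [Nat.add_sub_cancel] at h11
      have h12 : (t + 1) ^ 2 = t * t + 2 * t + 1 := by ring
      omega
    obtain ⟨g, hg'⟩ := (PoleCases.stabilizer_cyclic P hy).exists_generator
    have h10 : orderOf ((g : X) : K) = s := by
      rw [Subgroup.orderOf_coe, Subgroup.orderOf_coe, orderOf_eq_card_of_forall_mem_zpowers hg', h8]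
    have h11 : s = q + 1 := by
      rcases (D.spec s).1 ⟨_, h10⟩ with h12 | h12 | h12
      · have := Nat.le_of_dvd hp.1.pos h12
        omega
      · rw [hδ, Nat.div_one] at h12
        have := Nat.le_of_dvd (by omega) h12
        omega
      · rw [hδ, Nat.div_one] at h12
        have h13 := Nat.le_of_dvd (by omega) h12
        by_contra h14
        rw [show s = q by omega] at h12
        have h15 := Nat.le_of_dvd (by norm_num) ((Nat.dvd_add_right dvd_rfl).1 h12)
        omega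
    have h12 : X.index * 2 = q * (q - 1) := by
      refine Nat.eq_of_mul_eq_mul_right (show 0 < q + 1 by omega) ?_
      rw [hδ, mul_one, ← hcard, h7, h11] at hK
      have h13 : q ^ 2 - 1 = (q + 1) * (q - 1) := by simpa using Nat.sq_sub_sq q 1
      rw [h13] at hK
      calc X.index * 2 * (q + 1) = 2 * (q + 1) * X.index := by ring
        _ = _ := by rw [hK]; ring
    refine ⟨hp2, ?_, h12⟩
    obtain ⟨f, hf⟩ := D.pw
    rw [hp2] at hf
    by_contra h13
    have h14 : f < 3 := by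
      by_contra h15
      have h16 : 2 ^ 3 ≤ 2 ^ f := Nat.pow_le_pow_right (by norm_num) (by omega)
      omega
    have h15 : q = 4 := by
      interval_cases f <;> omega
    rw [h15] at h12
    exact no_six h.dvd h.one_lt h.lt (by rw [show X.index = 6 by omega]; norm_num)
  · exfalso
    have hp3 : p = 3 := PoleCases.eq_of_card_E P Nat.prime_three (hr ▸ h6)
    have hδ : δ = 2 := by rcases D.dl with h9 | h9 <;> omega
    rw [h6, h8, hδ] at h5
    have h9 : q ≤ 20 := by
      by_contra h10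
      have h11 : 21 ^ 2 ≤ q ^ 2 := Nat.pow_le_pow_left (by omega) 2
      omega
    obtain ⟨f, hf⟩ := D.pw
    rw [hp3] at hf
    have h10 : f < 3 := by
      by_contra h15
      have h16 : 3 ^ 3 ≤ 3 ^ f := Nat.pow_le_pow_right (by norm_num) (by omega)
      omega
    have h11 : q = 9 := by
      interval_cases f <;> omega
    rw [h11, hδ, ← hcard, h7] at hK
    exact no_six h.dvd h.one_lt h.lt (by rw [show X.index = 6 by omega]; norm_num)

theorem odd_of_ne (D : Data K p q δ L Ω) (h : p ≠ 2) : Odd q := by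
  obtain ⟨f, hf⟩ := D.pw
  exact hf ▸ (hp.1.odd_of_ne_two h).pow

/-- the dihedral case, `p ∤ |X|` -/
theorem tame_dih [IsSimpleGroup K] (D : Data K p q δ L Ω) (h : Loc X d) (hX : ¬ p ∣ Nat.card X) {k : ℕ}
    (hk : 3 ≤ k) (e : X ≃* DihedralGroup k) : False := by
  obtain ⟨c₀, -, hord, hcard, -⟩ := dihedral_data hk e
  have hp2 : p ≠ 2 := fun h1 => hX (by rw [h1, hcard]; exact Dvd.intro _ rfl)
  have hδ : δ = 2 := by rcases D.dl with h9 | h9 <;> omega
  have h1 := D.order_le (g := c₀) fun h2 => hX (by rw [hcard, ← hord]; exact h2.mul_left 2)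
  rw [hord, hδ] at h1
  have hK := D.card
  have h4 := D.four
  obtain ⟨t, ht⟩ := odd_of_ne D hp2
  have h13 : q ^ 2 - 1 = (q + 1) * (q - 1) := by simpa using Nat.sq_sub_sq q 1
  rw [hδ, h13] at hK
  have h2 := h.dihedral hk e (c := q + 1) ?_ (fun _ => D.conj hp2) ?_
  · have h3 : q * (q - 1) ≤ k * k * 2 := by
      refine Nat.le_of_mul_le_mul_right ?_ (show 0 < q + 1 by omega)
      calc q * (q - 1) * (q + 1) = Nat.card K * 2 := by rw [hK]; ring
        _ ≤ k * k * (q + 1) * 2 := Nat.mul_le_mul_right _ h2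
        _ = _ := by ring
    have h5 : k * k ≤ (t + 1) * (t + 1) := Nat.mul_le_mul (by omega) (by omega)
    rw [ht, Nat.add_sub_cancel] at h3
    have h6 : 2 ≤ t := by omega
    nlinarith
  · intro hod
    have h3 := X.card_mul_index
    rw [← h3, hcard, ht, Nat.add_sub_cancel] at hK
    have h5 : k * X.index = (2 * t + 1) * (t * (t + 1)) := by
      refine Nat.eq_of_mul_eq_mul_left (show 0 < 4 by norm_num) ?_
      calc 4 * (k * X.index) = 2 * k * X.index * 2 := by ring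
        _ = _ := by rw [hK]; ring
    have h6 : Even (k * X.index) := h5 ▸ (Nat.even_mul_succ_self t).mul_left _
    exact even_iff_two_dvd.1 ((Nat.even_mul.1 h6).resolve_left (Nat.not_even_iff_odd.2 hod))
  · intro u hu huu
    have h3 := D.cent_two (g := u) fun h5 => hu (by
      obtain ⟨j, hj⟩ := hp.1.odd_of_ne_two hp2
      rwa [hj, pow_succ, pow_mul, pow_two, huu, one_pow, one_mul] at h5)
    rw [hδ] at h3
    omega

/-- the cases `A₄`, `S₄`, `A₅`, `p ∤ |X|` -/
theorem tame_small [IsSimpleGroup K] (D : Data K p q δ L Ω) (h : Loc X d) (hX : ¬ p ∣ Nat.card X)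
    (hcard : Nat.card X = 12 ∨ Nat.card X = 24 ∨ Nat.card X = 60) (hord : ∀ x : X, x ^ 4 = 1 ∨ x ^ 3 = 1 ∨ x ^ 5 = 1)
    (h3 : 3 ∣ d → ¬ 9 ∣ Nat.card K → ∀ y ∈ X, orderOf y = 3 → Subgroup.centralizer ({y} : Set K) ≤ X) : False := by
  have hp2 : p ≠ 2 := fun h1 => hX (by rw [h1]; omega)
  have hp3 : p ≠ 3 := fun h1 => hX (by rw [h1]; omega)
  have hδ : δ = 2 := by rcases D.dl with h9 | h9 <;> omega
  have hK := D.card
  have h4 := D.four
  have hodd := Nat.odd_iff.1 (odd_of_ne D hp2)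
  have hq3 : ¬ 3 ∣ q := fun h1 => by
    obtain ⟨f, hf⟩ := D.pw
    rw [hf] at h1
    exact hp3 ((Nat.prime_dvd_prime_iff_eq Nat.prime_three hp.1).1 (Nat.prime_three.dvd_of_dvd_pow h1)).symm
  have hidx := X.card_mul_index
  have h13 : q ^ 2 - 1 = (q + 1) * (q - 1) := by simpa using Nat.sq_sub_sq q 1
  rw [hδ] at hK
  have : Fact (Nat.Prime 3) := ⟨Nat.prime_three⟩
  have h1 := h.dvd
  have h1' := h.one_lt
  have h1'' := h.lt
  have hnp := h.not_prime
  have hX3 : 3 ∣ Nat.card X := by omega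
  by_cases hd : 3 ∣ d
  · have h5 : ¬ 3 ∣ X.index := fun h6 => h.not_dvd Nat.prime_three h6 hd
    have h6 : ¬ 9 ∣ Nat.card K := by
      rw [← hidx]
      rcases hcard with h7 | h7 | h7 <;> rw [h7] <;> omega
    obtain ⟨N, hN, hN3, g, hg⟩ : ∃ N, (N = (q - 1) / 2 ∨ N = (q + 1) / 2) ∧ 3 ∣ N ∧ ∃ g : K, orderOf g = N := by
      by_cases h7 : q % 3 = 1
      · exact ⟨_, Or.inl rfl, by omega, (D.spec _).2 (Or.inr (Or.inl (hδ ▸ dvd_rfl)))⟩
      · exact ⟨_, Or.inr rfl, by omega, (D.spec _).2 (Or.inr (Or.inr (hδ ▸ dvd_rfl)))⟩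
    obtain ⟨y, hy⟩ := exists_prime_orderOf_dvd_card' 3 hX3
    rw [← Subgroup.orderOf_coe] at hy
    have hy' : orderOf (g ^ (N / 3)) = 3 := by
      rw [← hg] at hN3 ⊢
      exact orderOf_pow_orderOf_div (orderOf_pos g).ne' hN3
    have hsyl : ∀ z : K, orderOf z = 3 → ∃ P : Sylow 3 K, (P : Subgroup K) = Subgroup.zpowers z := fun z hz =>
      ⟨(isPGroup_zpowers (k := 1) (by rw [pow_one, ← hz, pow_orderOf_eq_one])).toSylow (fun h7 => h6 (by
        rw [← (Subgroup.zpowers z).card_mul_index, Nat.card_zpowers, hz]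
        omega)), rfl⟩
    obtain ⟨P, hP⟩ := hsyl _ hy
    obtain ⟨Q, hQ⟩ := hsyl _ hy'
    obtain ⟨a, rfl⟩ := MulAction.exists_smul_eq K Q P
    have h7 : (y : K) ∈ ((a • Q : Sylow 3 K) : Subgroup K) := hP ▸ Subgroup.mem_zpowers _
    rw [Sylow.coe_subgroup_smul, hQ] at h7
    obtain ⟨_, ⟨j, rfl⟩, hj⟩ := h7
    have hj' : a * (g ^ (N / 3)) ^ j * a⁻¹ = y := hj
    have h8 : a * g * a⁻¹ ∈ X := h3 hd h6 y y.2 hy (by
      rw [Subgroup.mem_centralizer_singleton_iff, ← hj']
      have h9 : g * (g ^ (N / 3)) ^ j = (g ^ (N / 3)) ^ j * g :=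
        (((Commute.refl g).pow_right _).zpow_right _).eq
      calc a * g * a⁻¹ * (a * (g ^ (N / 3)) ^ j * a⁻¹) = a * (g * (g ^ (N / 3)) ^ j) * a⁻¹ := by group
        _ = _ := by rw [h9]; group)
    have h9 : orderOf (⟨_, h8⟩ : X) = N := by
      rw [← Subgroup.orderOf_coe, ← hg]
      exact (MulAut.conj a).orderOf_eq g
    have h10 : N = 3 := by
      rcases hord ⟨_, h8⟩ with h11 | h11 | h11
      all_goals
        have h12 := orderOf_dvd_of_pow_eq_one h11
        rw [h9] at h12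
        have h14 := Nat.le_of_dvd (by norm_num) h12
        interval_cases N <;> omega
    have h11 : q = 5 ∨ q = 7 := by omega
    rcases h11 with rfl | rfl <;> rcases hcard with h7 | h7 | h7 <;> rw [h7] at hidx
    · exact hnp (by rw [show X.index = 5 by omega]; norm_num)
    · omega
    · omega
    · exact no_six h1 h1' h1'' (by rw [show X.index = 14 by omega]; norm_num)
    · exact hnp (by rw [show X.index = 7 by omega]; norm_num)
    · omega
  · obtain ⟨R⟩ : Nonempty (Sylow 3 X) := inferInstance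
    have hR : Nat.card (R : Subgroup X) = 3 := by
      obtain ⟨j, hj⟩ := IsPGroup.iff_card.1 R.isPGroup'
      have h5 := R.ne_bot_of_dvd_card hX3
      have h6 := (R : Subgroup X).card_subgroup_dvd_card
      rw [hj] at h6
      match j, hj, h6 with
      | 0, hj, _ => exact absurd (Subgroup.card_eq_one.1 hj) h5
      | 1, hj, _ => exact hj
      | j + 2, _, h6 =>
        have h7 : 9 ∣ Nat.card X := (Dvd.intro_left (3 ^ j) (by ring)).trans h6
        omega
    have h5 := (h.good hd).card_le hX3 R (c := (q + 1) / 2) (by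
      rintro u _ hu ⟨k, hk⟩
      have h6 : ∀ n, Nat.Coprime n 3 → u ^ n ≠ 1 := fun n hn h7 => hu (by
        rw [← orderOf_eq_one_iff]
        exact Nat.eq_one_of_dvd_coprimes (hn.pow_right k) (orderOf_dvd_of_pow_eq_one h7)
          (orderOf_dvd_of_pow_eq_one hk))
      have h7 := D.cent_odd (h6 p ((Nat.coprime_primes hp.1 Nat.prime_three).2 hp3))
        (by rw [← pow_two]; exact h6 2 (by norm_num))
      rw [hδ] at h7
      omega)
    have h6 := R.card_dvd_index
    have h7 := card_sylow_modEq_one 3 X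
    have h8 := (R : Subgroup X).card_mul_index
    rw [hR] at h5 h8
    obtain ⟨s, hs⟩ : ∃ s, s = Nat.card (Sylow 3 X) := ⟨_, rfl⟩
    rw [← hs] at h5 h6 h7
    have h9 : q * (q - 1) ≤ 2 * (s * s) := by
      refine Nat.le_of_mul_le_mul_right ?_ (show 0 < q + 1 by omega)
      obtain ⟨t, ht⟩ : ∃ t, q + 1 = 2 * t := ⟨(q + 1) / 2, by omega⟩
      rw [ht, Nat.mul_div_cancel_left _ (by norm_num)] at h5
      calc q * (q - 1) * (q + 1) = Nat.card K * 2 := by rw [hK, h13]; ring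
        _ ≤ s * (s * (3 - 1)) * t * 2 := Nat.mul_le_mul_right _ h5
        _ = _ := by rw [ht]; ring
    have h10 : ∀ b c : ℕ, s ≤ b → 2 * (b * b) < (c + 1) * c → q ≤ c := fun b c hb hc => by
      by_contra h11
      have h12 : (c + 1) * c ≤ q * (q - 1) := Nat.mul_le_mul (by omega) (by omega)
      have h14 : s * s ≤ b * b := Nat.mul_le_mul hb hb
      omega
    unfold Nat.ModEq at h7
    rcases hcard with h11 | h11 | h11 <;> rw [h11] at hidx h8
    · rw [show (R : Subgroup X).index = 4 by omega] at h6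
      have h12 := h10 4 6 (Nat.le_of_dvd (by norm_num) h6) (by norm_num)
      obtain rfl : q = 5 := by omega
      exact hnp (by rw [show X.index = 5 by omega]; norm_num)
    · rw [show (R : Subgroup X).index = 8 by omega] at h6
      have h12 := Nat.le_of_dvd (by norm_num) h6
      have h14 := h10 4 6 (by interval_cases s <;> omega) (by norm_num)
      obtain rfl : q = 5 := by omega
      omega
    · rw [show (R : Subgroup X).index = 20 by omega] at h6
      have h12 := Nat.le_of_dvd (by norm_num) h6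
      have h14 := h10 10 14 (by interval_cases s <;> omega) (by norm_num)
      have h15 : q = 5 ∨ q = 7 ∨ q = 11 ∨ q = 13 := by omega
      rcases h15 with rfl | rfl | rfl | rfl
      · omega
      · omega
      · exact hnp (by rw [show X.index = 11 by omega]; norm_num)
      · omega

theorem ord_four : ∀ x : Equiv.Perm (Fin 4), x ^ 4 = 1 ∨ x ^ 3 = 1 ∨ x ^ 5 = 1 := by decide +kernel

theorem ord_five : ∀ x : Equiv.Perm (Fin 5), Equiv.Perm.sign x = 1 → x ^ 4 = 1 ∨ x ^ 3 = 1 ∨ x ^ 5 = 1 := by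
  decide +kernel

theorem ord_transfer {A B : Type*} [Group A] [Group B] (f : A →* B) (hf : Function.Injective f) {x : A}
    (h : f x ^ 4 = 1 ∨ f x ^ 3 = 1 ∨ f x ^ 5 = 1) : x ^ 4 = 1 ∨ x ^ 3 = 1 ∨ x ^ 5 = 1 := by
  simpa only [← map_pow, map_eq_one_iff f hf] using h

/-- the row inside the socle -/
theorem core [IsSimpleGroup K] (D : Data K p q δ L Ω) (h : Loc X d) (hn : p ∣ X.index)
    (h3 : 3 ∣ d → ¬ 9 ∣ Nat.card K → ∀ y ∈ X, orderOf y = 3 → Subgroup.centralizer ({y} : Set K) ≤ X) :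
    p = 2 ∧ 8 ≤ q ∧ X.index * 2 = q * (q - 1) := by
  by_cases hX : p ∣ Nat.card X
  · exact wild D h hn hX
  exfalso
  have P := PoleCases.restrict D.pole X
  have hpow : ∀ g : X, g ≠ 1 → g ^ p ≠ 1 := fun g hg hgp => hX (orderOf_eq_prime hgp hg ▸ orderOf_dvd_natCard g)
  have hcyc : ∀ x : Ω, IsCyclic (stabilizer X x) := fun x => by
    obtain ⟨χ, hχ⟩ := P.chi x
    refine isCyclic_of_injective_ringHom ((Units.coeHom L).comp χ) ?_
    rw [injective_iff_map_eq_one]
    intro g hg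
    by_contra hne
    exact hpow g (fun h1 => hne (Subtype.ext h1)) (congrArg Subtype.val ((hχ g).1 (Units.ext hg)))
  rcases PolePrime.pole_prime (fun (g : X) hg => P.two g (hpow g hg)) hcyc with
    h1 | ⟨k, hk, ⟨e⟩⟩ | ⟨⟨e⟩⟩ | ⟨⟨e⟩⟩ | ⟨⟨e⟩⟩
  · exact h.not_comm inferInstance
  · rcases Nat.lt_or_ge k 3 with h2 | h2
    · obtain rfl : k = 2 := by omega
      have h4 : ∀ a b : DihedralGroup 2, a * b = b * a := by decide
      exact h.not_comm ⟨⟨fun a b => e.injective (by rw [map_mul, map_mul, h4])⟩⟩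
    · exact tame_dih D h hX h2 e
  · refine tame_small D h hX (Or.inl ?_) (fun x => ord_transfer ((alternatingGroup (Fin 4)).subtype.comp e.toMonoidHom)
      (Subtype.val_injective.comp e.injective) (ord_four _)) h3
    rw [Nat.card_congr e.toEquiv, nat_card_alternatingGroup, Nat.card_fin]
    rfl
  · refine tame_small D h hX (Or.inr (Or.inl ?_)) (fun x => ord_transfer e.toMonoidHom e.injective (ord_four _)) h3
    rw [Nat.card_congr e.toEquiv, Nat.card_perm, Nat.card_fin]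
    rfl
  · refine tame_small D h hX (Or.inr (Or.inr ?_))
      (fun x => ord_transfer ((alternatingGroup (Fin 5)).subtype.comp e.toMonoidHom)
      (Subtype.val_injective.comp e.injective) (ord_five _ (e x).2)) h3
    rw [Nat.card_congr e.toEquiv, nat_card_alternatingGroup, Nat.card_fin]
    rfl

theorem nine_dvd (a : ℕ) : 9 ∣ a ^ 3 * ((a ^ 3) ^ 2 - 1) := by
  by_cases h : 3 ∣ a
  · obtain ⟨b, rfl⟩ := h
    exact Dvd.dvd.mul_right ⟨3 * b ^ 3, by ring⟩ _
  · refine Dvd.dvd.mul_left ?_ _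
    have h1 : Nat.Coprime a 9 := Nat.Coprime.pow_right 2 ((Nat.prime_three.coprime_iff_not_dvd.2 h).symm)
    have h2 := Nat.ModEq.pow_totient h1
    rw [show Nat.totient 9 = 6 by decide] at h2
    rw [← pow_mul]
    exact (Nat.modEq_iff_dvd' (Nat.one_le_pow _ _ (Nat.pos_of_ne_zero fun h3 => h (by rw [h3]; exact dvd_zero 3)))).1 h2.symm

theorem card_dvd_aut {G : Type*} [Group G] [Finite G] {T : Subgroup G} (hT : AS T) :
    Nat.card G ∣ Nat.card (MulAut T) := by
  have := hT.normal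
  refine Subgroup.card_dvd_of_injective (MulAut.conjNormal (H := T)) ?_
  rw [injective_iff_map_eq_one]
  intro g hg
  have h1 : g ∈ Subgroup.centralizer (T : Set G) := fun t ht => by
    have h2 : g * t * g⁻¹ = t := congrArg (fun σ : MulAut T => ((σ ⟨t, ht⟩ : T) : G)) hg
    exact (mul_inv_eq_iff_eq_mul.1 h2).symm
  rwa [hT.cent] at h1

/-- **The row `PSL₂(q)`.** -/
theorem rowPSL2 : RowPSL2 := by
  rintro G _ _ T H m hT hH ⟨F, _, _, h4, ⟨e⟩⟩
  obtain ⟨p, hchar⟩ := CharP.exists F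
  have hp : Fact p.Prime := ⟨CharP.char_is_prime F p⟩
  have := hT.simple
  obtain ⟨L, Ω, _, _, _, D⟩ := exists_data p h4 e
  obtain ⟨f, -, hf⟩ := FiniteField.card F p
  have hn := Par.dvd_of_lie hT hH hp.1 (Or.inl ⟨F, _, _, hchar, 2, le_rfl, fun _ => h4, ⟨e⟩⟩)
  obtain ⟨hp2, h8, hidx⟩ := core D (loc hT hH) (index_eq hT hH ▸ hn) (fun h3 h9 y hy hy3 g hg => by
    have h1 := card_dvd_aut hT
    rw [Nat.card_congr (MulAut.congr e).toEquiv, S0813.result p f f.2 hf 2 le_rfl (fun _ => hf ▸ h4), if_pos rfl,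
      one_mul, PSL2Basic.card_PGL2, ← D.card, ← T.card_mul_index, mul_left_comm] at h1
    have h2 := Nat.dvd_of_mul_dvd_mul_left Nat.card_pos h1
    have h5 : ¬ 3 ∣ T.index := fun h6 => by
      rcases Nat.prime_three.dvd_mul.1 (h6.trans h2) with h7 | h7
      · obtain ⟨a, ha⟩ := h7
        have h10 := nine_dvd (p ^ a)
        rw [← pow_mul, mul_comm a, ← ha, ← hf, ← D.card] at h10
        rcases D.dl with ⟨-, h11⟩ | ⟨-, h11⟩ <;> rw [h11] at h10 <;> omega
      · rcases D.dl with ⟨-, h11⟩ | ⟨-, h11⟩ <;> rw [h11] at h7 <;> omega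
    have h6 : ¬ 3 ∣ m := fun h7 => by
      have h10 : 3 * 3 ∣ Nat.card H := div_mul hH ▸ Nat.mul_dvd_mul h3 h7
      rw [card_eq_mul hT hH] at h10
      exact h9 ((Nat.Coprime.dvd_of_dvd_mul_right (Nat.Coprime.pow_left 2
        (Nat.prime_three.coprime_iff_not_dvd.2 h5)) h10).trans (Subgroup.card_subgroup_dvd_card _))
    refine mem_of_not_dvd hH (Y := Subgroup.zpowers (y : G)) ((Subgroup.zpowers_le).2 hy) ?_ ?_
    · rwa [Nat.card_zpowers, Subgroup.orderOf_coe, hy3]
    · rw [Subgroup.zpowers_le, mem_cj]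
      rw [Subgroup.mem_centralizer_singleton_iff] at hg
      have h7 : (g : G) * y = y * g := congrArg Subtype.val hg
      show (g : G)⁻¹ * y * g ∈ H
      rw [mul_assoc, ← h7, inv_mul_cancel_left]
      exact hy)
  subst hp2
  rw [index_eq hT hH, hf] at hidx
  have hf3 : 3 ≤ (f : ℕ) := by
    by_contra h1
    have h2 : 2 ^ (f : ℕ) ≤ 2 ^ 2 := Nat.pow_le_pow_right (by norm_num) (by omega)
    omega
  refine Or.inr ⟨f, hf3, ?_, T, hT.normal, ?_⟩
  · refine Nat.eq_of_mul_eq_mul_right (show 0 < 2 by norm_num) ?_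
    rw [hidx, mul_right_comm, ← pow_succ, Nat.sub_add_cancel (by omega)]
  · have := Fintype.ofFinite (GaloisField 2 f)
    refine ⟨e.trans (LieClassical.FieldTransfer.pslCongr (FiniteField.ringEquivOfCardEq ?_))⟩
    rw [hf, ← Nat.card_eq_fintype_card, GaloisField.card 2 f f.ne_zero]

end Cfsg.Agent.TH.Psl
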