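import Mathlib
import Cfsg.Agent.TH.RedAS
import Cfsg.Agent.S3356

/-!
# S3541: free facts about `H ⊓ T` in the almost simple case (helper71)
-/

set_option autoImplicit false
set_option linter.unusedSectionVars false

namespace Cfsg.Agent.TH

open MulAction

variable {G : Type*} [Group G] [Finite G] {T H : Subgroup G} {m : ℕ}

theorem AS.ne_bot (hT : AS T) : T ≠ ⊥ := by
  have := hT.simple
  exact (Subgroup.nontrivial_iff_ne_bot T).1 inferInstance

theorem AS.not_le (hT : AS T) (hH : Half H m) : ¬ T ≤ H := fun h => by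
  have := hT.normal
  exact hT.ne_bot (hH.eq_bot_of_normal h)

theorem AS.exists_mul (hT : AS T) (hH : Half H m) (g : G) : ∃ h ∈ H, ∃ t ∈ T, g = h * t := by
  have := hT.normal
  exact Red.exists_mul_normal hH hT.ne_bot g

theorem AS.exists_mul' (hT : AS T) (hH : Half H m) (g : G) : ∃ t ∈ T, ∃ h ∈ H, g = t * h := by
  obtain ⟨h, hh, t, ht, rfl⟩ := hT.exists_mul hH g
  exact ⟨h * t * h⁻¹, hT.normal.conj_mem t ht h, h, hh, by group⟩

/-- every conjugate of `H` is a conjugate under the socle -/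
theorem AS.exists_cj_eq (hT : AS T) (hH : Half H m) (g : G) : ∃ t ∈ T, cj g H = cj t H := by
  obtain ⟨t, ht, h, hh, rfl⟩ := hT.exists_mul' hH g
  exact ⟨t, ht, by rw [cj_mul, cj_of_mem hh]⟩

/-- the degree is the index of `H ⊓ T` in `T` -/
theorem AS.relIndex_eq (hT : AS T) (hH : Half H m) : H.relIndex T = H.index := by
  have h1 : orbit T ((1 : G) : G ⧸ H) = Set.univ := by
    refine Set.eq_univ_of_forall fun β => ?_
    induction β using QuotientGroup.induction_on with
    | _ g =>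
    obtain ⟨t, ht, h, hh, rfl⟩ := hT.exists_mul' hH g
    refine ⟨⟨t, ht⟩, ?_⟩
    show t • ((1 : G) : G ⧸ H) = _
    rw [MulAction.Quotient.smul_mk, QuotientGroup.eq]
    simpa using hh
  have h2 := index_stabilizer T ((1 : G) : G ⧸ H)
  rw [h1, Set.ncard_univ] at h2
  rw [Subgroup.index, ← h2, Subgroup.relIndex]
  congr 1
  ext u
  rw [mem_stabilizer_iff, Subgroup.mem_subgroupOf]
  show _ ↔ (u : G) • ((1 : G) : G ⧸ H) = ((1 : G) : G ⧸ H)
  rw [smul_coe_eq_iff, cj_one]

theorem AS.card_inf_mul (hT : AS T) (hH : Half H m) : Nat.card ↥(H ⊓ T) * H.index = Nat.card T := by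
  rw [← hT.relIndex_eq hH, ← (H.subgroupOf T).card_mul_index, Subgroup.relIndex, ← Subgroup.inf_subgroupOf_right,
    Nat.card_congr (Subgroup.subgroupOfEquivOfLe (inf_le_right : H ⊓ T ≤ T)).toEquiv]

theorem AS.le_normalizer_inf (hT : AS T) : H ≤ Subgroup.normalizer ((H ⊓ T : Subgroup G) : Set G) := fun h hh => by
  have := hT.normal
  exact mem_normalizer_of_cj_eq (by rw [cj_inf, cj_of_mem hh, Red.cj_normal])

/-- the socle is not regular -/
theorem AS.inf_ne_bot (hT : AS T) (hH : Half H m) : H ⊓ T ≠ ⊥ := by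
  intro h0
  have := hT.normal
  have : FaithfulSMul G (G ⧸ H) := ⟨fun {a b} h => by
    rw [← inv_mul_eq_one, ← Subgroup.mem_bot, ← hH.core, Subgroup.normalCore_eq_ker, MonoidHom.mem_ker]
    ext x
    show (a⁻¹ * b) • x = x
    rw [mul_smul, ← h, inv_smul_smul]⟩
  have hcard : ∀ a b : G ⧸ H, b ≠ a → Nat.card (orbit (stabilizer G a) b) = Nat.card H / m := fun a b hab => by
    induction a using QuotientGroup.induction_on with
    | _ a =>
    induction b using QuotientGroup.induction_on with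
    | _ b =>
    have h1 : a⁻¹ * b ∉ H := fun h => hab (QuotientGroup.eq.2 h).symm
    rw [Nat.card_coe_set_eq, ← index_stabilizer]
    have h2 : stabilizer (stabilizer G (a : G ⧸ H)) (b : G ⧸ H) = (cj b H).subgroupOf (stabilizer G (a : G ⧸ H)) := by
      ext x
      exact smul_coe_eq_iff _ _
    rw [h2, stabilizer_coe, ← card_cj a H]
    have h3 : a * (a⁻¹ * b) * a⁻¹ ∉ cj a H := by
      rw [mem_cj]
      simpa [mul_assoc] using h1
    rw [← (hH.cj a).relIndex_eq h3, ← cj_mul, Subgroup.relIndex]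
    congr 3
    group
  obtain ⟨g, hg⟩ := hH.exists_not_mem
  refine hT.nonab (Cfsg.Agent.S3356.result (G := G) (Ω := G ⧸ H) inferInstance (fun a => ?_)
    (fun a b c hb hc => (hcard a b hb).trans (hcard a c hc).symm) T ⟨fun x y => ?_⟩ (fun a => ?_)
    ⟨((1 : G) : G ⧸ H), g, fun h => hg ((coe_eq_one_iff g).1 h.symm), ?_⟩).1.choose_spec.2.1
  · induction a using QuotientGroup.induction_on with
    | _ a =>
    rw [stabilizer_coe]
    exact (hH.cj a).ne_bot
  · induction x using QuotientGroup.induction_on with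
    | _ x =>
    induction y using QuotientGroup.induction_on with
    | _ y =>
    obtain ⟨t, ht, h, hh, rfl⟩ := hT.exists_mul' hH x
    obtain ⟨t', ht', h', hh', rfl⟩ := hT.exists_mul' hH y
    refine ⟨⟨t' * t⁻¹, mul_mem ht' (inv_mem ht)⟩, ?_⟩
    show (t' * t⁻¹) • ((t * h : G) : G ⧸ H) = _
    rw [MulAction.Quotient.smul_mk, QuotientGroup.eq, smul_eq_mul]
    simpa [mul_assoc] using mul_mem (inv_mem hh) hh'
  · induction a using QuotientGroup.induction_on with
    | _ a =>
    refine eq_bot_iff.2 fun x hx => ?_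
    have h1 : (x : G) ∈ cj a H ⊓ cj a T := ⟨(smul_coe_eq_iff _ _).1 hx, (Red.cj_normal T a).ge x.2⟩
    rw [← cj_inf, h0, Red.cj_bot, Subgroup.mem_bot] at h1
    exact Subtype.ext h1
  · rw [stabilizer_coe, stabilizer_coe, cj_one, ← Subgroup.one_lt_card_iff_ne_bot, hH.card_inf g hg]
    exact hH.one_lt

theorem AS.normalizer_inf (hT : AS T) (hH : Half H m) :
    Subgroup.normalizer ((H ⊓ T : Subgroup G) : Set G) = H :=
  hH.normalizer_eq (hT.inf_ne_bot hH) inf_le_left hT.le_normalizer_inf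

/-- some prime dividing `d` divides the order of `H ⊓ T` -/
theorem AS.exists_prime (hT : AS T) (hH : Half H m) :
    ∃ r, r.Prime ∧ r ∣ Nat.card ↥(H ⊓ T) ∧ r ∣ Nat.card H / m ∧ ¬ r ∣ H.index := by
  obtain ⟨r, hr, h1, h2⟩ := hH.exists_prime_dvd (hT.inf_ne_bot hH) inf_le_left hT.le_normalizer_inf
  exact ⟨r, hr, h1, h2, hH.not_dvd_index hr h2⟩

/-- the orbits of `H ⊓ T` have length dividing `d` -/
theorem AS.relIndex_dvd_d (hT : AS T) (hH : Half H m) (g : G) : (cj g H).relIndex (H ⊓ T) ∣ Nat.card H / m :=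
  hH.relIndex_dvd_d inf_le_left hT.le_normalizer_inf g

/-- F3 inside the socle: if `r ∤ d`, then `r` does not divide the index of `K_g ⊓ T` in `H ⊓ T` -/
theorem AS.not_dvd_relIndex (hT : AS T) (hH : Half H m) {r : ℕ} (h : ¬ r ∣ Nat.card H / m) (g : G) :
    ¬ r ∣ (cj g H).relIndex (H ⊓ T) := fun h' => h (h'.trans (hT.relIndex_dvd_d hH g))

end Cfsg.Agent.TH
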